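import Cfsg.Agent.Lib.SF.Sft3

/-! Signalizer functor theorem: steps (10)-(13) and the theorem. -/

set_option autoImplicit false

namespace Cfsg.Agent.SF.T

open Subgroup Cfsg.Agent.FT Cfsg.Agent.Tr
open scoped commutatorElement

universe u

variable {G : Type u} [Group G] [Finite G] {A B K N R U V X Y M L P Q : Subgroup G}
  {θ : G → Subgroup G} {a b c d x : G} {p r u v w : ℕ}

theorem OB.ne_self (h : OB p M L) : L ≠ M := fun e =>
  h.ne (by rw [← h.ti, ← e]; exact (inf_eq_left.2 (pF_nrm p L).le).symm)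

namespace Min

variable (h : Min A θ)
include h

theorem lemK' [Fact p.Prime] (hc : Good A θ c u M) (hV : V ≤ core {p} M) (hn : c ∈ 𝐍(V))
    (hX : Sig A θ X) (hle : ⁅V, zpowers c⁆ ≤ X) : ⁅V, zpowers c⁆ ≤ core {p} X :=
  h.lemK hc.mem hc.ne1 hc.sig hc.th hV hn hX hle

theorem ten_u (hc : Good A θ c u M) (hL : Sig A θ L) (ho : OB p M L) : u = p := by
  by_contra hne
  haveI := Fact.mk hc.prime
  have hn := (hc.sig.core {u}).nz hc.mem
  have h1 := h.lemK' hc le_rfl hn hL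
    ((commg_subl.2 (norms_cycle.2 hn)).trans ((core_le_pF hne M).trans ho.g1))
  exact hc.ne (eq_bot_iff.2 (h1.trans ((ho.disj u hc.prime hne).resolve_left hc.core_ne).le))

theorem ten_P [Fact p.Prime] (hc : Good A θ c u M) (hL : Sig A θ L) (h2 : cA A θ ≤ L)
    (ho : OB p M L) : core {p} L ≤ M := by
  by_cases h0 : pF p M = ⊥
  · obtain ⟨P, -, hP⟩ := exists_maxP (hL.core {p}) (pcore_isPGroup p L)
    exact (h.T2 (hL.core _) (pcore_isPGroup p L) (h2.trans (pcore_norm _ L)) hP).trans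
      (h.seven_c hc.max hc.cA h0 hP).1
  refine h.abv hc.max (pF_nrm p M) (pF_nz p hc.sig.nz) h0 _ (hL.core _) (cents_norm ?_)
  have hA : A ≤ 𝐍(𝐙(core {p} M)) := norms_center (hc.sig.core _).nz
  have h1 : core {p} L ⊓ 𝐂(𝐙(core {p} M)) ≤ M := h.abv hc.max (pcore_normal _ M).center hA
    (center_pgroup_ne_bot (pcore_isPGroup p M) ho.pM) _ ((hL.core _).inf (norms_cent hA))
    (inf_le_right.trans (cent_sub _))
  refine pxq_lemma (P := 𝐙(core {p} M)) (pgroup_sub inf_le_left (pcore_isPGroup p M))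
    (p'group_iff_coprime.1 (pcore_pgroup _ _)) (inf_le_left.trans (centsC.1 (pF_cent p M)))
    (pcore_isPGroup p L) (ho.z.trans (pcore_norm _ L)) (ho.g1.trans (pcore_norm _ L)) ?_
  rw [← commG1P, eq_bot_iff, ← TI_pcoreC {p} L (fit M)]
  exact le_inf ((commSg _ inf_le_left).trans (commg_subl.2 (ho.g1.trans (pcore_norm _ L))))
    (commg_subr.2 (h1.trans (pF_nrm p M).nz))

theorem ob_inv (hc : Good A θ c u M) (hL : Sig A θ L) (ho : OB p M L) :
    ∀ y ∈ pF p L, c * y * c⁻¹ = y⁻¹ := fun _ hy =>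
  inv_of_fpf (h.sq hc.mem) (pF_nz p hL.nz hc.mem) (eq_bot_iff.2 (by
    rw [← ho.ti]
    exact le_inf inf_le_left (((hL.fit.core _).cent c hc.mem hc.ne1).trans hc.th))) hy

theorem eleven_aux [Fact p.Prime] (hc : Good A θ c p M) (hd : Good A θ d r N) (hne : c ≠ d)
    (h0 : core {p} N = ⊥) : ⁅core {p} M, zpowers c⁆ ≤ core {p} (θ (c * d)) := by
  obtain ⟨B, hB, hcy, hel⟩ := exists_four h.ab hc.mem hd.mem hc.ne1 hd.ne1 hne
  have hS := hc.sig.core {p}
  have aux : ∀ y ∈ A, y ≠ 1 → ⁅core {p} M ⊓ 𝐂[y], zpowers c⁆ ≤ θ y := fun y hy h1 =>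
    (commg_subl.2 (norms_cycle.2 ((hS.inf (h.nz_c1 hy)).nz hc.mem))).trans (hS.cent y hy h1)
  refine comm_le_of_cent1 h.ab hB hcy hS.odd hS.nz hc.mem fun y hy h1 => ?_
  rcases hel y hy with rfl | rfl | rfl | rfl
  · exact absurd rfl h1
  · rw [commG1P.2 (by rw [cent_cycle]; exact inf_le_right)]; exact bot_le
  · exact (h.lemK' hc inf_le_left ((hS.inf (h.nz_c1 hd.mem)).nz hc.mem) hd.sig
      ((aux y hd.mem h1).trans hd.th)).trans (h0.le.trans bot_le)
  · exact h.lemK' hc inf_le_left ((hS.inf (h.nz_c1 (hB hy))).nz hc.mem) (h.th (hB hy) h1)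
      (aux _ (hB hy) h1)

/-- (11) -/
theorem eleven [hp : Fact p.Prime] [hr : Fact r.Prime] (hc : Good A θ c u M) (hd : Good A θ d v N)
    (huniq : c = d → u = v) (hL : Sig A θ L) (ho : OB p M L) (ho' : OB r N L) : p = r := by
  by_contra hne
  obtain rfl := h.ten_u hc hL ho
  obtain rfl := h.ten_u hd hL ho'
  have hcd : c ≠ d := fun e => hne (huniq e)
  have h1 := h.eleven_aux hc hd hcd ((ho'.disj u hp.out hne).resolve_right ho.pL)
  have h0 := (ho.disj v hr.out (Ne.symm hne)).resolve_right ho'.pL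
  have h2 := h.eleven_aux hd hc hcd.symm h0
  rw [abelem_comm h.ab hd.mem hc.mem] at h2
  have h3 := hc.abv _ (h.sig_comm hd.mem (hd.sig.core {v})) (cents_norm (centSS h2 h1
    ((core_le_pF (Ne.symm hne) _).trans (pF_cent u _))))
  exact hd.ne (eq_bot_iff.2
    ((h.lemK' hd le_rfl ((hd.sig.core _).nz hd.mem) hc.sig h3).trans h0.le))

theorem twelve_S [Fact p.Prime] [Fact r.Prime] (hb : Good A θ b v L) (hc : Good A θ c u M)
    (ho : OB p M L) (hd : Good A θ d w N) (huniq : c = d → u = w) (hne : r ≠ p) (h0 : Y ≠ ⊥)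
    (hN : Y ≤ core {r} N) (hL : Y ≤ core {r} L) (hA : A ≤ 𝐍(Y)) (hc' : cA A θ ≤ 𝐍(Y)) :
    L = N := by
  have hY : Y ≤ pF p L := hL.trans (core_le_pF hne L)
  obtain ⟨L', hL', hab⟩ := h.exists_abv ((hb.sig.core _).of_le hL hA) h0
  obtain rfl := h.eight hb hL' (hab _ hb.sig.fit (cents_norm (fit_le_of
    (centsC.1 (hY.trans (pF_cent p L))) (sub_abelian_cent (abelian_of_inv (h.ob_inv hc hb.sig ho)) hY))))
    (hab _ h.sig_cA hc')
  exact (h.DI hd hL' hb.cA h0 hN hL hA hab).resolve_right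
    fun ho' => hne (h.eleven hc hd huniq hb.sig ho ho').symm

theorem twelve_b [Fact p.Prime] (hb : Good A θ b v L) (hc : Good A θ c u M)
    (ho : OB p M L) (hx : Good A θ x w N) (huniq : c = x → u = w) (hcent : x ∈ 𝐂(pF p L)) :
    L = N := by
  set Z := Ohm1 p 𝐙(core {p} M) with hZ
  have hZM : Z ⊴ M := Ohm_normal_trans p (pcore_normal _ M).center
  have hZA : A ≤ 𝐍(Z) := norms_Ohm1 p (norms_center (hc.sig.core _).nz)
  have hZ0 : Z ≠ ⊥ := Ohm1_center_ne_bot (pcore_isPGroup p M) ho.pM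
  have hZab : Abelem p Z := Ohm1_center_abelem p _
  have hZL : Z ≤ L := (Ohm_sub _ _).trans ho.z
  have hP := h.ten_P hc hb.sig hb.cA ho
  have h1 : Z ⊓ core {p} L = ⊥ := by
    by_contra h0
    obtain ⟨L', hL', hab⟩ := h.exists_abv ((hc.sig.of_le hZM.le hZA).inf (hb.sig.core {p}).nz) h0
    have hcA := hab _ h.sig_cA (normsI (hc.cA.trans hZM.nz) (hb.cA.trans (pcore_norm _ L)))
    refine ho.ne_self ((h.eight hb hL' (hab _ hb.sig.fit (fit_le_of
      (normsI (hP.trans hZM.nz) (normG _))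
      (cents_norm ((pF_cent p L).trans (centS inf_le_right))))) hcA).symm.trans
      (h.eight hc hL' (hab _ hc.sig.fit (cents_norm (centsC.1 ?_))) hcA))
    exact inf_le_left.trans ((Ohm_sub _ _).trans ((zp_cent p M).trans inf_le_right))
  have hZc : Z ≤ 𝐂[c] := by
    rw [← cent_cycle, ← commG1P, eq_bot_iff, ← h1]
    have := commg_subl.2 (norms_cycle.2 (hZA hc.mem))
    exact le_inf this (h.lemK' hc ((Ohm_sub _ _).trans inf_le_left) (hZA hc.mem) hb.sig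
      (this.trans hZL))
  have hPZ : Z ≤ 𝐂(core {p} L) := commG_TI (hZL.trans (pcore_norm _ L)) (hP.trans hZM.nz) h1
  have h2 : Z ⊓ 𝐂(pF p L) = ⊥ := by
    rw [eq_bot_iff, ← h1]
    refine le_inf inf_le_left (sub_Fitting_pcore' ((le_inf (inf_le_left.trans hZL) (centsC.1
      (fit_le_of (centsC.1 (inf_le_left.trans hPZ)) (centsC.1 inf_le_right)))).trans
      (cent_sub_Fitting hb.sig.sol)) (pgroup_sub inf_le_left (abelem_pgroup hZab)))
  have hZx : Z ≤ 𝐂[x] := by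
    rw [← cent_cycle, ← commG1P, eq_bot_iff, ← h2]
    exact le_inf (commg_subl.2 (norms_cycle.2 (hZA hx.mem))) ((commgS _ (cycle_subG.2 hcent)).trans
      (commg_subr.2 (norms_cent (hZL.trans (pF_nrm p L).nz))))
  have ⟨r, hr, hne, h0⟩ : ∃ r, r.Prime ∧ r ≠ p ∧ core {r} L ≠ ⊥ := by
    by_contra hcon
    push Not at hcon
    exact ho.ne (eq_bot_iff.2 (pF_le fun r hr hne => (hcon r hr hne).le))
  haveI := Fact.mk hr
  have hR := core_le_pF hne L
  have h3 := HH (Z := Z) (R := core {r} L) hne.symm hx.sig.odd (h.sq hc.mem) (hx.sig.nz hc.mem)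
    (le_inf ((hb.sig.le_th hx.mem hx.ne1 hZL hZx).trans hx.th) hZc) hZab
    (((hx.sig.cent c hc.mem hc.ne1).trans hc.th).trans hZM.nz)
    ((hb.sig.le_th hx.mem hx.ne1 (pcore_sub _ L) (sub_cent1.2 (centS hR hcent))).trans hx.th)
    (pcore_isPGroup r L) (fun y hy => h.ob_inv hc hb.sig ho y (hR hy))
    (hZL.trans (pcore_norm _ L)) (by
      rw [eq_bot_iff, ← ho.ti]
      exact le_inf (inf_le_left.trans hR) (h.abv hc.max hZM hZA hZ0 _
        ((hb.sig.core _).inf (norms_cent hZA)) (inf_le_right.trans (cent_sub _))))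
  exact h.twelve_S hb hc ho hx huniq hne h0 h3 le_rfl (hb.sig.core _).nz
    (hb.cA.trans (pcore_norm _ L))

/-- the subgroups `[C_{O_r(L)}(B), x]` -/
theorem hyp_comm [Fact r.Prime] (hx : Good A θ x w L) (hB : Hyp A B) :
    A ≤ 𝐍(⁅core {r} L ⊓ 𝐂(B), zpowers x⁆) ∧ cA A θ ≤ 𝐍(⁅core {r} L ⊓ 𝐂(B), zpowers x⁆) ∧
      ⁅core {r} L ⊓ 𝐂(B), zpowers x⁆ ≤ core {r} L ∧
      (∀ X, Sig A θ X → ⁅core {r} L ⊓ 𝐂(B), zpowers x⁆ ≤ X →
        ⁅core {r} L ⊓ 𝐂(B), zpowers x⁆ ≤ core {r} X) ∧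
      ∀ d ∈ B, d ≠ 1 → ⁅core {r} L ⊓ 𝐂(B), zpowers x⁆ ≤ θ d := by
  have hA : A ≤ 𝐍(core {r} L ⊓ 𝐂(B)) :=
    norms_subcent (hx.sig.core _).nz (sub_abelian_norm h.comm hB.le)
  have h1 := commg_subl.2 (norms_cycle.2 (hA hx.mem))
  exact ⟨normsR hA (h.nz_zp hx.mem), normsR (normsI (hx.cA.trans (pcore_norm _ L))
    (normsG ((cA_cent h.fn).trans (centS hB.le)))) (h.cA_zp hx.mem), h1.trans inf_le_left,
    fun X hX hle => h.lemK' hx inf_le_left (hA hx.mem) hX hle,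
    fun d hd hd1 => h1.trans ((inf_le_inf_left _ (cent_le_cent1 hd)).trans
      ((hx.sig.core _).cent d (hB.le hd) hd1))⟩

theorem twelve_a [Fact p.Prime] {uu : G → ℕ} {MM : G → Subgroup G}
    (hall : ∀ d ∈ A, d ≠ 1 → Good A θ d (uu d) (MM d)) (hc : Good A θ c (uu c) M)
    (ho : OB p M L) (hx : Good A θ x w L) : x ∈ 𝐂(pF p L) := by
  refine sub_cent1.1 (pF_le fun r hr hne => ?_)
  haveI := Fact.mk hr
  rw [← cent_cycle, ← commG1P, eq_bot_iff]
  refine comm_le_of_hyp h.ab h.card (hx.sig.core _).odd (hx.sig.core _).nz hx.mem fun B hB => ?_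
  by_contra h0
  obtain ⟨h1, h2, h3, h4, h5⟩ := h.hyp_comm (r := r) hx hB
  refine h.nc (complete_of h.ab h.fn hB.le (hB.not_cyclic h.ab) hx.sig fun d hd hd1 => ?_)
  have hg := hall d (hB.le hd) hd1
  rw [h.twelve_S hx hc ho hg (fun e => by rw [e]) hne (fun e => h0 e.le)
    (h4 _ hg.sig ((h5 d hd hd1).trans hg.th)) h3 h1 h2]
  exact hg.th

theorem thirteen : False := by
  have hex : ∀ d, ∃ u M, d ∈ A → d ≠ 1 → Good A θ d u M := fun d => by
    by_cases hd : d ∈ A ∧ d ≠ 1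
    · obtain ⟨u, M, hg⟩ := h.exists_good hd.1 hd.2
      exact ⟨u, M, fun _ _ => hg⟩
    · exact ⟨0, ⊥, fun h1 h2 => absurd ⟨h1, h2⟩ hd⟩
  choose uu MM hall using hex
  obtain ⟨a, ha, ha1⟩ := h.exists_ne
  have hg := hall a ha ha1
  haveI := Fact.mk hg.prime
  obtain ⟨B, hB, h0⟩ : ∃ B, Hyp A B ∧ ⁅core {uu a} (MM a) ⊓ 𝐂(B), zpowers a⁆ ≠ ⊥ := by
    by_contra hcon
    push Not at hcon
    exact hg.ne (eq_bot_iff.2 (comm_le_of_hyp h.ab h.card (hg.sig.core _).odd (hg.sig.core _).nz ha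
      fun B hB => (hcon B hB).le))
  have haB : a ∉ B := fun e => h0 (commG1P.2 (inf_le_right.trans (centS (cycle_subG.2 e))))
  obtain ⟨h1, h2, h3, h4, h5⟩ := h.hyp_comm (r := uu a) hg hB
  have hU := (hg.sig.core _).of_le h3 h1
  obtain ⟨L, hL, hab⟩ := h.exists_abv hU h0
  have hcA := hab _ h.sig_cA h2
  have hUL := h4 _ hL.prop (hab _ hU (normG _))
  have hDI : ∀ d ∈ B, d ≠ 1 → L = MM d ∨ OB (uu a) (MM d) L := fun d hd hd1 =>
    have hg' := hall d (hB.le hd) hd1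
    h.DI hg' hL hcA h0 (h4 _ hg'.sig ((h5 d hd hd1).trans hg'.th)) hUL h1 hab
  obtain ⟨c, hc, hc1, ho⟩ : ∃ c ∈ B, c ≠ 1 ∧ OB (uu a) (MM c) L := by
    by_contra hcon
    push Not at hcon
    refine h.nc (complete_of h.ab h.fn hB.le (hB.not_cyclic h.ab) hL.prop fun d hd hd1 => ?_)
    rw [(hDI d hd hd1).resolve_right (hcon d hd hd1)]
    exact (hall d (hB.le hd) hd1).th
  obtain ⟨b, hb, hb1, hne⟩ : ∃ b ∈ B, b ≠ 1 ∧ pF (uu a) L ⊓ 𝐂[b] ≠ ⊥ := by
    by_contra hcon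
    push Not at hcon
    exact ho.ne (eq_bot_iff.2 (le_of_cent1 (abelemS hB.le h.ab) (hB.not_cyclic h.ab)
      (hL.prop.fit.core _).odd (hB.le.trans (hL.prop.fit.core _).nz)
      fun d hd hd1 => (hcon d hd hd1).le))
  have hgb := hall b (hB.le hb) hb1
  have hgc := hall c (hB.le hc) hc1
  have hLb : L = MM b := (hDI b hb hb1).resolve_right fun ho' => hne (eq_bot_iff.2 (by
    rw [← ho'.ti]
    exact le_inf inf_le_left (((hL.prop.fit.core _).cent b (hB.le hb) hb1).trans hgb.th)))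
  rw [← hLb] at hgb
  have key : ∀ y ∈ A, y ∈ 𝐂(pF (uu a) L) → y ∈ B := by
    intro y hy hyc
    by_contra hyB
    have hy1 : y ≠ 1 := fun e => hyB (e ▸ one_mem B)
    obtain ⟨E, hE, hcy, hel⟩ := exists_four h.ab hy (hB.le hb) hy1 hb1 (fun e => hyB (e ▸ hb))
    have hbc := h.twelve_a hall hgc ho hgb
    refine h.nc (complete_of h.ab h.fn hE hcy hL.prop fun d hd hd1 => ?_)
    have hgd := hall d (hE hd) hd1
    rw [h.twelve_b hgb hgc ho hgd (fun e => by rw [e]) ?_]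
    · exact hgd.th
    · rcases hel d hd with rfl | rfl | rfl | rfl
      exacts [one_mem _, hyc, hbc, mul_mem hyc hbc]
  rcases h.DI hg hL hcA h0 h3 hUL h1 hab with e | ho'
  · exact haB (key a ha (h.twelve_a hall hgc ho (e ▸ hg)))
  · have h6 := key (a * c) (mul_mem ha (hB.le hc)) (mem_cent.2 fun y hy => by
      have e1 := h.ob_inv hgc hL.prop ho y hy
      have e2 := h.ob_inv hg hL.prop ho' _ (inv_mem hy)
      calc y * (a * c) = (a * y⁻¹ * a⁻¹) * (a * c) := by rw [e2, inv_inv]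
        _ = a * (c * y * c⁻¹) * c := by rw [e1]; group
        _ = a * c * y := by group)
    exact haB (by simpa using mul_mem h6 (inv_mem hc))

end Min

theorem complete8 (n : ℕ) : ∀ (G : Type u) [Group G] [Finite G] (A : Subgroup G)
    (θ : G → Subgroup G), Fn A θ → (pairs A θ).ncard = n → Complete A θ := by
  induction n using Nat.strong_induction_on with
  | _ n ih =>
  intro G _ _ A θ hf hn
  by_contra hc
  exact Min.thirteen ⟨hf, fun H _ _ A' θ' hf' hlt => ih _ (hn ▸ hlt) H A' θ' hf' rfl, hc⟩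

end Cfsg.Agent.SF.T

namespace Cfsg.Agent.SF

open Subgroup Cfsg.Agent.FT T

universe u

/-- The signalizer functor theorem for the prime 2. -/
theorem sft : SFTStmt.{u} := by
  intro G _ _ A θ hA h8 hθ
  obtain ⟨n, hn⟩ := abelem_card hA
  have h3 : 2 ^ 3 ∣ #|A| := by
    rw [hn] at h8 ⊢
    exact pow_dvd_pow 2 ((Nat.pow_le_pow_iff_right one_lt_two).1 (show 2 ^ 3 ≤ 2 ^ n from h8))
  obtain ⟨B, hB, hc⟩ := exists_sub_card_pow h3
  have hBa := abelemS hB hA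
  have hcy := not_cyclic8 hBa hc
  obtain ⟨W, hW, hW'⟩ := complete8 _ G B θ ⟨hBa, hc, fun a ha => hθ.odd a (hB ha),
    fun a ha => hθ.cent a (hB ha), fun a ha h1 => hB.trans (hθ.inv a (hB ha) h1),
    fun a ha h1 b hb => hθ.bal a (hB ha) h1 b (hB hb)⟩ rfl
  have e : W = ⨆ b : {b // b ∈ B ∧ b ≠ 1}, θ b := le_antisymm
    (le_of_cent1 hBa hcy hW.odd hW.nz fun b hb h1 => (hW.cent b hb h1).trans
      (le_iSup (fun b : {b // b ∈ B ∧ b ≠ 1} => θ b) ⟨b, hb, h1⟩))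
    (iSup_le fun b => hW' b b.2.1 b.2.2)
  have hAW : A ≤ 𝐍(W) := e ▸ norms_iSup fun b => hθ.inv b (hB b.2.1) b.2.2
  have hS : Sig A θ W := ⟨hAW, hW.odd, fun a ha h1 => le_of_cent1 hBa hcy
    (odd_of_le inf_le_left hW.odd)
    (hB.trans (normsI hAW (norms_cent1 (sub_abelian_cent1 (abelem_abelian hA) ha))))
    fun b hb hb1 => (le_inf ((inf_le_inf_right _ inf_le_left).trans (hW.cent b hb hb1))
      (inf_le_left.trans inf_le_right)).trans (hθ.bal b (hB hb) hb1 a ha h1)⟩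
  obtain ⟨X, hX, hX'⟩ := complete_of hA hθ hB hcy hS hW'
  exact ⟨X, hX.odd, hX.nz, fun a ha h1 =>
    le_antisymm (hX.cent a ha h1) (le_inf (hX' a ha h1) (hθ.cent a ha h1))⟩

end Cfsg.Agent.SF
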