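import Cfsg.Agent.Lib.SF.ThmA
import Cfsg.Agent.Lib.SF.Sft4

/-! Theorem A and S1172 from the consequence `BScStmt` of the Bender–Suzuki theorem. -/

set_option autoImplicit false

namespace Cfsg.Agent.SF.GP

open Cfsg Cfsg.Agent.FT

universe u

theorem thmA_of_bsc (hB : BScStmt.{u}) : ThmAStmt.{u} := thmA_of FT.oddOrder SF.sft hB

theorem s1172_of (hB : BScStmt.{u}) {G : Type u} [Group G] [Finite G] (hO : Cfsg.oddCore G = ⊥)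
    (hO' : ∀ N : Subgroup G, N.Normal → Odd N.index → N = ⊤) (S : Sylow 2 G)
    (S₁ S₂ : Subgroup G) (hprod : Cfsg.IsInternalDirectProduct S₁ S₂ (S : Subgroup G)) (m₁ m₂ : ℕ)
    (hm₁ : 2 ≤ m₁) (hm₂ : 2 ≤ m₂) (e₁ : S₁ ≃* DihedralGroup m₁) (e₂ : S₂ ≃* DihedralGroup m₂)
    (hcl₁ : Cfsg.IsStronglyClosed S₁ (S : Subgroup G))
    (hcl₂ : Cfsg.IsStronglyClosed S₂ (S : Subgroup G)) :
    ∃ G₁ G₂ : Subgroup G, G₁.Normal ∧ G₂.Normal ∧ Cfsg.IsInternalDirectProduct G₁ G₂ ⊤ ∧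
      ∃ R₁ R₂ : Subgroup G, Cfsg.IsInternalDirectProduct R₁ R₂ (S : Subgroup G) ∧
        (∃ n₁, 2 ≤ n₁ ∧ Nonempty (R₁ ≃* DihedralGroup n₁)) ∧
        (∃ n₂, 2 ≤ n₂ ∧ Nonempty (R₂ ≃* DihedralGroup n₂)) ∧ R₁ ≤ G₁ ∧ R₂ ≤ G₂ ∧
        Odd (R₁.relIndex G₁) ∧ Odd (R₂.relIndex G₂) := by
  obtain ⟨G₁, G₂, n₁, n₂, hG, l₁, l₂, o₁, o₂⟩ :=
    product_of (thmA_of_bsc hB) hO hO' S hprod hcl₁ hcl₂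
  exact ⟨G₁, G₂, n₁, n₂, hG, S₁, S₂, hprod, ⟨m₁, hm₁, ⟨e₁⟩⟩, ⟨m₂, hm₂, ⟨e₂⟩⟩, l₁, l₂, o₁, o₂⟩

end Cfsg.Agent.SF.GP
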