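import Cfsg.Agent.Lib.SF.ThmA5

/-! Theorem A of `docs/SF_PLAN.md` (Goldschmidt's product theorem) and its product corollary. -/

set_option autoImplicit false
set_option linter.unusedSectionVars false
set_option linter.unusedVariables false

namespace Cfsg.Agent.SF.GP

open Subgroup Cfsg.Agent.FT

universe u

section
variable {G : Type*} [Group G]

/-- the elements conjugate into `T` -/
def cl (T : Subgroup G) : Set G := {x | ∃ g : G, g * x * g⁻¹ ∈ T}

theorem mem_cl {T : Subgroup G} {x : G} (h : x ∈ T) : x ∈ cl T := ⟨1, by simpa using h⟩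

theorem cl_conj {T : Subgroup G} {x : G} (h : x ∈ cl T) (g : G) : g * x * g⁻¹ ∈ cl T := by
  obtain ⟨k, hk⟩ := h
  exact ⟨k * g⁻¹, by simpa [mul_assoc] using hk⟩

theorem mem_of_cl {T S : Subgroup G} (h : IsStronglyClosed T S) {x : G} (hx : x ∈ cl T)
    (hS : x ∈ S) : x ∈ T := by
  obtain ⟨g, hg⟩ := hx
  simpa [mul_assoc] using h.2 _ hg g⁻¹ (by simpa [mul_assoc] using hS)

theorem closure_cl (T : Subgroup G) : closure (cl T) = normalClosure (T : Set G) := by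
  refine le_antisymm ((closure_le _).2 fun x ⟨g, hg⟩ => ?_) ((closure_le _).2 fun x hx => ?_)
  · simpa [mul_assoc] using (normalClosure_normal (s := (T : Set G))).conj_mem _
      (subset_normalClosure hg) g⁻¹
  · obtain ⟨y, hy, h⟩ := Group.mem_conjugatesOfSet_iff.1 hx
    obtain ⟨g, rfl⟩ := isConj_iff.1 h
    exact subset_closure (cl_conj (mem_cl hy) g)

variable [Finite G] {S : Sylow 2 G}

theorem syl_top (S : Sylow 2 G) : IsSylowIn 2 (S : Subgroup G) ⊤ :=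
  sylowIn_iff.1 (Tr.SylowIn.top S)

theorem conj_into (S : Sylow 2 G) {P : Subgroup G} (hP : IsPGroup 2 P) :
    ∃ k : G, ∀ x ∈ P, k * x * k⁻¹ ∈ (S : Subgroup G) := by
  obtain ⟨k, -, hk⟩ := Sylow_Jsub (syl_top S) le_top hP
  exact ⟨k, Tr.cj_le_iff.1 hk⟩

theorem fam_cl {T : Subgroup G} (h : IsStronglyClosed T (S : Subgroup G)) : Fam (cl T) where
  one := mem_cl (one_mem T)
  conj x hx g := cl_conj hx g
  two x := fun ⟨g, hg⟩ => by
    have := pgroup_mem S.isPGroup' (h.1 hg)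
    rwa [← Tr.cj_zpowers, Tr.isPGroup_cj_iff] at this
  mul P hP x hx y hy h1 h2 := by
    obtain ⟨k, hk⟩ := conj_into S hP
    refine ⟨k, ?_⟩
    have := T.mul_mem (mem_of_cl h (cl_conj hx k) (hk x h1)) (mem_of_cl h (cl_conj hy k) (hk y h2))
    simpa [mul_assoc] using this

theorem pair_cl {T₁ T₂ : Subgroup G} (h₁ : IsStronglyClosed T₁ (S : Subgroup G))
    (h₂ : IsStronglyClosed T₂ (S : Subgroup G)) (hc : T₁ ≤ 𝐂(T₂)) (hd : T₁ ⊓ T₂ = ⊥) :
    Pair (cl T₁) (cl T₂) where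
  f₁ := fam_cl h₁
  f₂ := fam_cl h₂
  comm P hP x hx y hy h1 h2 := by
    obtain ⟨k, hk⟩ := conj_into S hP
    have := centsP.1 hc _ (mem_of_cl h₁ (cl_conj hx k) (hk x h1)) _
      (mem_of_cl h₂ (cl_conj hy k) (hk y h2))
    simp only [mul_assoc, inv_mul_cancel_left, mul_right_inj] at this
    simpa [← mul_assoc] using this
  disj x hx hy := by
    obtain ⟨g, hg⟩ := hx
    have : g * x * g⁻¹ ∈ T₁ ⊓ T₂ := ⟨hg, mem_of_cl h₂ (cl_conj hy g) (h₁.1 hg)⟩
    simpa [hd] using this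

theorem prd_cl {T₁ T₂ : Subgroup G} (h₁ : IsStronglyClosed T₁ (S : Subgroup G))
    (h₂ : IsStronglyClosed T₂ (S : Subgroup G)) (hc : T₁ ≤ 𝐂(T₂)) (hd : T₁ ⊓ T₂ = ⊥)
    (hs : T₁ ⊔ T₂ = S) : Prd (cl T₁) (cl T₂) ⊤ :=
  prd_of (pair_cl h₁ h₂ hc hd) (syl_top S) fun x hx => by
    obtain ⟨a, ha, b, hb, rfl⟩ := (mem_join_norm' (cents_norm hc)).1 (hs.ge hx)
    exact ⟨a, mem_cl ha, b, mem_cl hb, h₁.1 ha, h₂.1 hb, rfl⟩

/-- If the two normal closures commute, neither meets the other family. -/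
theorem disj_of_comm {T₁ T₂ : Set G} (hp : Pair T₁ T₂) (hs : Prd T₁ T₂ ⊤)
    (hc : closure T₁ ≤ 𝐂(closure T₂)) {x : G} (hx : x ∈ T₂) (h : x ∈ closure T₁) : x = 1 := by
  have hn : closure T₁ ⊴ ⊤ := FT.normal_top.2 hp.f₁.normal
  have h1 : Prd T₁ T₂ (closure T₁) := by
    obtain ⟨S, hS⟩ := Sylow_exists 2 (⊤ : Subgroup G)
    refine prd_of hp (Sylow_setI_normal' hn hS) fun x hx => ?_
    obtain ⟨a, ha, b, hb, h3, h4, rfl⟩ := hs S hS x hx.1
    exact ⟨a, ha, b, hb, ⟨h3, subset_closure ha⟩,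
      ⟨h4, ((closure T₁).mul_mem_cancel_left (subset_closure ha)).1 hx.2⟩, rfl⟩
  have hp' := hp.comap _ (closure T₁).subtype_injective
  refine congrArg Subtype.val (mem_bot.1 (transfer_prd hp'.symm (h1.subtype.symm hp') ?_
    (K := ⊥) (fun y hy g => mem_bot.2 (Subtype.ext ?_)) (x := ⟨x, h⟩) hx))
  · apply map_injective (closure T₁).subtype_injective
    rw [← NN_eq_map, ← MonoidHom.range_eq_map, range_subtype]
    exact le_antisymm (NN_le _ _) ((closure_le _).2 fun t ht => mem_NN ht (subset_closure ht))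
  · change (g : G) * y * (g : G)⁻¹ * (y : G)⁻¹ = 1
    rw [centsP.1 hc g g.2 y (subset_closure hy)]
    group

end

/-- Theorem A -/
theorem thmA_of (hFT : OddOrderThm.{u}) (hF : SFTStmt.{u}) (hB : BScStmt.{u}) : ThmAStmt.{u} :=
  fun G _ _ S T₁ T₂ h₁ h₂ hc hd hs => by
    rw [← closure_cl, ← closure_cl, ← core_top_eq]
    exact reduce (simpleCase hFT hF hB) _ G _ _ rfl (pair_cl h₁ h₂ hc hd)
      (hs.imp_left (prd_cl h₁ h₂ hc hd))

/-- product fusion: the group is the direct product of the two normal closures -/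
theorem product_of (hA : ThmAStmt.{u}) {G : Type u} [Group G] [Finite G] (hO : oddCore G = ⊥)
    (hO' : ∀ N : Subgroup G, N.Normal → Odd N.index → N = ⊤) (S : Sylow 2 G) {S₁ S₂ : Subgroup G}
    (hprod : IsInternalDirectProduct S₁ S₂ (S : Subgroup G))
    (h₁ : IsStronglyClosed S₁ (S : Subgroup G)) (h₂ : IsStronglyClosed S₂ (S : Subgroup G)) :
    ∃ G₁ G₂ : Subgroup G, G₁.Normal ∧ G₂.Normal ∧ IsInternalDirectProduct G₁ G₂ ⊤ ∧
      S₁ ≤ G₁ ∧ S₂ ≤ G₂ ∧ Odd (S₁.relIndex G₁) ∧ Odd (S₂.relIndex G₂) := by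
  obtain ⟨-, -, hc, hd, hs⟩ := hprod
  have hc' := centsP.2 hc
  have hp := pair_cl h₁ h₂ hc' hd
  have hq := prd_cl h₁ h₂ hc' hd hs
  have h1 := hA G S S₁ S₂ h₁ h₂ hc' hd (Or.inl hs)
  rw [← closure_cl, ← closure_cl, hO, le_bot_iff, commG1P] at h1
  have n₁ := hp.f₁.normal
  have n₂ := hp.f₂.normal
  have l₁ : S₁ ≤ closure (cl S₁) := fun x hx => subset_closure (mem_cl hx)
  have l₂ : S₂ ≤ closure (cl S₂) := fun x hx => subset_closure (mem_cl hx)
  have e₁ : (S : Subgroup G) ⊓ closure (cl S₁) = S₁ := le_antisymm (fun x hx => by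
    obtain ⟨a, ha, b, hb, rfl⟩ := (mem_join_norm' (cents_norm hc')).1 (hs.ge hx.1)
    rwa [disj_of_comm hp hq h1 (mem_cl hb) ((Subgroup.mul_mem_cancel_left _ (l₁ ha)).1 hx.2),
      mul_one]) (le_inf h₁.1 l₁)
  have e₂ : (S : Subgroup G) ⊓ closure (cl S₂) = S₂ := le_antisymm (fun x hx => by
    obtain ⟨a, ha, b, hb, rfl⟩ := (mem_join_norm' (cents_norm hc')).1 (hs.ge hx.1)
    rwa [disj_of_comm hp.symm (hq.symm hp) (centsC.1 h1) (mem_cl ha)
      ((Subgroup.mul_mem_cancel_right _ (l₂ hb)).1 hx.2), one_mul]) (le_inf h₂.1 l₂)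
  have key : ∀ N : Subgroup G, N.Normal → Odd (((S : Subgroup G) ⊓ N).relIndex N) := fun N hN =>
    Nat.not_even_iff_odd.1 fun h =>
      (Sylow_setI_normal' (FT.normal_top.2 hN) (syl_top S)).not_dvd h.two_dvd
  refine ⟨_, _, n₁, n₂, ⟨le_top, le_top, centsP.1 h1, ?_, hO' _ inferInstance ?_⟩, l₁, l₂,
    by simpa only [e₁] using key _ n₁, by simpa only [e₂] using key _ n₂⟩
  · have h2 := key (closure (cl S₁) ⊓ closure (cl S₂)) inferInstance
    rw [inf_inf_distrib_left, e₁, e₂, hd, indexg1] at h2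
    exact eq_bot_iff.2 ((le_core h2 (FT.normal_top.2 inferInstance)).trans
      (core_top_eq.trans hO).le)
  · refine Nat.not_even_iff_odd.1 fun h => S.not_dvd_index (h.two_dvd.trans (index_dvd_of_le ?_))
    rw [← hs]
    exact sup_le_sup l₁ l₂

end Cfsg.Agent.SF.GP
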