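import Cfsg.Agent.Lib.SF.Gen
import Cfsg.Agent.Lib.Transfer.Focal
import Cfsg.Agent.S1251

/-!
Goldschmidt's product theorem: strongly closed 2-subgroups seen through the set of all elements
conjugate into them.
-/

set_option autoImplicit false
set_option linter.unusedSectionVars false
set_option linter.unusedVariables false

namespace Cfsg.Agent.SF.GP

open Subgroup Cfsg.Agent.FT

variable {G : Type*} [Group G]

/-- `T` is a conjugation invariant set of 2-elements meeting every 2-subgroup in a subgroup. -/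
structure Fam (T : Set G) : Prop where
  one : (1 : G) ∈ T
  conj : ∀ x ∈ T, ∀ g : G, g * x * g⁻¹ ∈ T
  two : ∀ x ∈ T, IsPGroup 2 (zpowers x)
  mul : ∀ P : Subgroup G, IsPGroup 2 P → ∀ x ∈ T, ∀ y ∈ T, x ∈ P → y ∈ P → x * y ∈ T

/-- two families that commute inside 2-subgroups and meet trivially -/
structure Pair (T₁ T₂ : Set G) : Prop where
  f₁ : Fam T₁
  f₂ : Fam T₂
  comm : ∀ P : Subgroup G, IsPGroup 2 P → ∀ x ∈ T₁, ∀ y ∈ T₂, x ∈ P → y ∈ P → x * y = y * x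
  disj : ∀ x ∈ T₁, x ∈ T₂ → x = 1

/-- the Sylow 2-subgroups of `X` are the product of their two parts -/
def Prd (T₁ T₂ : Set G) (X : Subgroup G) : Prop :=
  ∀ P, IsSylowIn 2 P X → ∀ x ∈ P, ∃ a ∈ T₁, ∃ b ∈ T₂, a ∈ P ∧ b ∈ P ∧ x = a * b

/-- the subgroup generated by the members of `T` in `X` -/
def NN (T : Set G) (X : Subgroup G) : Subgroup G := closure (T ∩ X)

theorem NN_le_iff {T : Set G} {X Y : Subgroup G} : NN T X ≤ Y ↔ ∀ t ∈ T, t ∈ X → t ∈ Y := by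
  rw [NN, closure_le]
  exact ⟨fun h t ht hx => h ⟨ht, hx⟩, fun h t ht => h t ht.1 ht.2⟩

theorem NN_le (T : Set G) (X : Subgroup G) : NN T X ≤ X := NN_le_iff.2 fun _ _ h => h

theorem mem_NN {T : Set G} {X : Subgroup G} {t : G} (ht : t ∈ T) (hx : t ∈ X) : t ∈ NN T X :=
  subset_closure ⟨ht, hx⟩

theorem le_NN {T : Set G} {X E : Subgroup G} (hT : ∀ e ∈ E, e ∈ T) (hE : E ≤ X) : E ≤ NN T X :=
  fun e he => mem_NN (hT e he) (hE he)

theorem NN_mono (T : Set G) {X Y : Subgroup G} (h : X ≤ Y) : NN T X ≤ NN T Y :=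
  NN_le_iff.2 fun _ ht hx => mem_NN ht (h hx)

theorem NN_top (T : Set G) : NN T ⊤ = closure T := by simp [NN]

theorem NN_eq_map (T : Set G) (X : Subgroup G) :
    NN T X = (closure (X.subtype ⁻¹' T)).map X.subtype := by
  rw [MonoidHom.map_closure, Set.image_preimage_eq_inter_range]
  simp [NN]

theorem Pair.symm {T₁ T₂ : Set G} (h : Pair T₁ T₂) : Pair T₂ T₁ :=
  ⟨h.f₂, h.f₁, fun P hP x hx y hy h1 h2 => (h.comm P hP y hy x hx h2 h1).symm,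
    fun x h1 h2 => h.disj x h2 h1⟩

theorem Prd.symm {T₁ T₂ : Set G} {X : Subgroup G} (h : Prd T₁ T₂ X) (hp : Pair T₁ T₂) :
    Prd T₂ T₁ X := fun P hP x hx => by
  obtain ⟨a, ha, b, hb, h1, h2, rfl⟩ := h P hP x hx
  exact ⟨b, hb, a, ha, h2, h1, hp.comm P hP.pgroup a ha b hb h1 h2⟩

theorem pgroup_pair {x y : G} (hx : IsPGroup 2 (zpowers x)) (hy : IsPGroup 2 (zpowers y))
    (h : x * y = y * x) : IsPGroup 2 ↥(zpowers x ⊔ zpowers y) :=
  isPGroup_sup hx hy (cents_norm (by rw [cent_cycle, cycle_subG, mem_cent1]; exact h.symm))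

theorem pgroup_invol {x : G} (h : x * x = 1) : IsPGroup 2 (zpowers x) :=
  Tr.isPGroup_zpowers (k := 1) (by rw [pow_one, sq, h])

theorem pgroup_mem {P : Subgroup G} (hP : IsPGroup 2 P) {x : G} (h : x ∈ P) :
    IsPGroup 2 (zpowers x) := pgroup_sub (cycle_subG.2 h) hP

namespace Fam

variable {T : Set G} (hT : Fam T)
include hT

theorem conj' {x : G} (hx : x ∈ T) (g : G) : g⁻¹ * x * g ∈ T := by
  simpa using hT.conj x hx g⁻¹

theorem conj_iff {x g : G} : g * x * g⁻¹ ∈ T ↔ x ∈ T :=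
  ⟨fun h => by simpa [mul_assoc] using hT.conj' h g, fun h => hT.conj x h g⟩

theorem pow {x : G} (hx : x ∈ T) (n : ℕ) : x ^ n ∈ T := by
  induction n with
  | zero => simpa using hT.one
  | succ n ih =>
    rw [pow_succ]
    exact hT.mul _ (hT.two x hx) _ ih x hx (pow_mem (mem_zpowers x) n) (mem_zpowers x)

theorem mul_comm {x y : G} (hx : x ∈ T) (hy : y ∈ T) (h : x * y = y * x) : x * y ∈ T :=
  hT.mul _ (pgroup_pair (hT.two x hx) (hT.two y hy) h) x hx y hy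
    (mem_sup_left (mem_zpowers x)) (mem_sup_right (mem_zpowers y))

theorem norm_NN (X : Subgroup G) : 𝐍(X) ≤ 𝐍(NN T X) :=
  norms_gen fun a ha x hx => ⟨hT.conj x hx.1 a, (memJ_norm ha).2 hx.2⟩

theorem NN_nrm (X : Subgroup G) : NN T X ⊴ X := ⟨NN_le T X, (normG X).trans (hT.norm_NN X)⟩

theorem normal : (closure T).Normal := by
  rw [← NN_top, ← FT.normal_top]
  exact hT.NN_nrm ⊤

theorem comap {G' : Type*} [Group G'] (f : G' →* G) (hf : Function.Injective f) :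
    Fam (f ⁻¹' T) where
  one := by simpa using hT.one
  conj x hx g := by simpa using hT.conj _ hx (f g)
  two x hx := by
    obtain ⟨k, hk⟩ := Tr.isPGroup_iff_forall_mem.1 (hT.two _ hx) _ (mem_zpowers _)
    exact Tr.isPGroup_zpowers (k := k) (hf (by rw [map_pow, hk, map_one]))
  mul P hP x hx y hy h1 h2 := by
    simpa using hT.mul _ (hP.map f) _ hx _ hy (mem_map_of_mem f h1) (mem_map_of_mem f h2)

variable [Finite G]

theorem of_mem_zpowers {x y : G} (hx : x ∈ T) (hy : y ∈ zpowers x) : y ∈ T := by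
  obtain ⟨n, rfl⟩ := (mem_powers_iff_mem_zpowers).2 hy
  exact hT.pow hx n

theorem inv {x : G} (hx : x ∈ T) : x⁻¹ ∈ T := hT.of_mem_zpowers hx (inv_mem (mem_zpowers x))

theorem mem_NN_iff {P : Subgroup G} (hP : IsPGroup 2 P) {x : G} : x ∈ NN T P ↔ x ∈ T ∧ x ∈ P := by
  refine ⟨fun h => ?_, fun h => mem_NN h.1 h.2⟩
  induction h using closure_induction with
  | mem x hx => exact hx
  | one => exact ⟨hT.one, one_mem P⟩
  | mul x y _ _ hx hy => exact ⟨hT.mul P hP x hx.1 y hy.1 hx.2 hy.2, mul_mem hx.2 hy.2⟩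
  | inv x _ hx => exact ⟨hT.inv hx.1, inv_mem hx.2⟩

theorem comm_mem {P : Subgroup G} (hP : IsPGroup 2 P) {t x : G} (ht : t ∈ T) (htP : t ∈ P)
    (h : x * t * x⁻¹ ∈ P) : x * t * x⁻¹ * t⁻¹ ∈ T :=
  hT.mul P hP _ (hT.conj t ht x) _ (hT.inv ht) h (inv_mem htP)

theorem exists_invol {x : G} (hx : x ∈ T) (h1 : x ≠ 1) :
    ∃ t ∈ T, t ∈ zpowers x ∧ orderOf t = 2 := by
  obtain ⟨t, ht, h2⟩ := Cauchy Nat.prime_two (pgroup_pdiv (hT.two x hx) (mt cycle_eq1.1 h1))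
  exact ⟨t, hT.of_mem_zpowers hx ht, ht, h2⟩

theorem sc (S : Sylow 2 G) : IsStronglyClosed (NN T S) (S : Subgroup G) :=
  ⟨NN_le T S, fun x hx g hg =>
    mem_NN (hT.conj x ((hT.mem_NN_iff S.isPGroup').1 hx).1 g) hg⟩

/-- S1251 for families -/
theorem cent_of_disj {H : Subgroup G} [H.Normal] (hO : 𝐎(H) = ⊥) (hd : ∀ t ∈ T, t ∈ H → t = 1) :
    closure T ≤ 𝐂(H) := by
  refine (closure_le _).2 fun t ht => ?_
  obtain ⟨S, hS⟩ := (hT.two t ht).exists_le_sylow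
  refine Cfsg.Agent.S1251.result S (NN T S) (hT.sc S) H (norms_of_normal _)
    (p'core_eq_bot_iff_pPrimeCore.1 hO) (eq_bot_iff.2 fun x hx => ?_) (mem_NN ht (hS (mem_zpowers t)))
  exact hd x ((hT.mem_NN_iff S.isPGroup').1 hx.1).1 hx.2

end Fam

theorem Pair.comap {T₁ T₂ : Set G} (h : Pair T₁ T₂) {G' : Type*} [Group G'] (f : G' →* G)
    (hf : Function.Injective f) : Pair (f ⁻¹' T₁) (f ⁻¹' T₂) where
  f₁ := h.f₁.comap f hf
  f₂ := h.f₂.comap f hf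
  comm P hP x hx y hy h1 h2 := hf (by
    simpa using h.comm _ (hP.map f) _ hx _ hy (mem_map_of_mem f h1) (mem_map_of_mem f h2))
  disj x h1 h2 := hf (by simpa using h.disj _ h1 h2)

variable [Finite G]

theorem prd_of {T₁ T₂ : Set G} (h : Pair T₁ T₂) {X P : Subgroup G} (hP : IsSylowIn 2 P X)
    (h' : ∀ x ∈ P, ∃ a ∈ T₁, ∃ b ∈ T₂, a ∈ P ∧ b ∈ P ∧ x = a * b) : Prd T₁ T₂ X := by
  intro Q hQ x hx
  obtain ⟨g, -, rfl⟩ := Sylow_trans hP hQ
  obtain ⟨y, hy, rfl⟩ := Tr.mem_cj'.1 hx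
  obtain ⟨a, ha, b, hb, h1, h2, rfl⟩ := h' y hy
  exact ⟨_, h.f₁.conj a ha g, _, h.f₂.conj b hb g, Tr.conj_mem_cj.2 h1, Tr.conj_mem_cj.2 h2,
    by group⟩

theorem Prd.subtype {T₁ T₂ : Set G} {X : Subgroup G} (h : Prd T₁ T₂ X) :
    Prd (X.subtype ⁻¹' T₁) (X.subtype ⁻¹' T₂) ⊤ := by
  intro P hP x hx
  have h1 : IsSylowIn 2 (P.map X.subtype) X := by
    have := morphim_pSylow X.subtype hP
    rwa [← MonoidHom.range_eq_map, range_subtype] at this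
  obtain ⟨a, ha, b, hb, ⟨a, h2, rfl⟩, ⟨b, h3, rfl⟩, e⟩ := h _ h1 x (mem_map_of_mem _ hx)
  exact ⟨a, ha, b, hb, h2, h3, Subtype.ext e⟩

section image

variable {G' : Type*} [Group G'] [Finite G'] (f : G →* G')

theorem exists_lift {P' : Subgroup G'} (hP' : IsPGroup 2 P') :
    ∃ P : Subgroup G, IsPGroup 2 P ∧ ∀ x : G, IsPGroup 2 (zpowers x) → f x ∈ P' →
      ∃ n ∈ f.ker, n * x * n⁻¹ ∈ P := by
  obtain ⟨P, hP⟩ := Sylow_exists 2 (P'.comap f)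
  refine ⟨P, hP.pgroup, fun x hx hx' => ?_⟩
  obtain ⟨g, hg, hgP⟩ := Sylow_Jsub hP (cycle_subG.2 hx') hx
  have h1 : MulEq P f.ker (P'.comap f) := Sylow_mulEq hP (ker_le_comap f P') (by
    rw [relIndex_ker]
    exact piG_of_isPGroup (pgroup_sub (map_comap_le f P') hP'))
  obtain ⟨p, hp, n, hn, rfl⟩ := h1.exists hg
  rw [Tr.cj_mul, Tr.cj_le_iff_le_cj_inv, Tr.cj_eq_of_mem (inv_mem hp)] at hgP
  exact ⟨n, hn, hgP (Tr.conj_mem_cj.2 (mem_zpowers x))⟩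

theorem map_conj_ker {n : G} (hn : n ∈ f.ker) (x : G) : f (n * x * n⁻¹) = f x := by
  simp [MonoidHom.mem_ker.1 hn]

/-- two elements whose images lie in a 2-group -/
theorem exists_lift2 {T₁ T₂ : Set G} (h₁ : Fam T₁) (h₂ : Fam T₂) {P' : Subgroup G'}
    (hP' : IsPGroup 2 P') {x y : G} (hx : x ∈ T₁) (hy : y ∈ T₂) (hx' : f x ∈ P') (hy' : f y ∈ P') :
    ∃ P : Subgroup G, IsPGroup 2 P ∧ ∃ n ∈ f.ker, ∃ m ∈ f.ker,
      n * x * n⁻¹ ∈ P ∧ m * y * m⁻¹ ∈ P := by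
  obtain ⟨P, hP, h⟩ := exists_lift f hP'
  obtain ⟨n, hn, h1⟩ := h x (h₁.two x hx) hx'
  obtain ⟨m, hm, h2⟩ := h y (h₂.two y hy) hy'
  exact ⟨P, hP, n, hn, m, hm, h1, h2⟩

variable {f} (hf : Function.Surjective f)
include hf

theorem Fam.image {T : Set G} (hT : Fam T) : Fam (f '' T) where
  one := ⟨1, hT.one, map_one f⟩
  conj := by
    rintro _ ⟨x, hx, rfl⟩ g
    obtain ⟨g, rfl⟩ := hf g
    exact ⟨_, hT.conj x hx g, by simp⟩
  two := by
    rintro _ ⟨x, hx, rfl⟩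
    rw [← MonoidHom.map_zpowers]
    exact (hT.two x hx).map f
  mul := by
    rintro P' hP' _ ⟨x, hx, rfl⟩ _ ⟨y, hy, rfl⟩ h1 h2
    obtain ⟨P, hP, n, hn, m, hm, h3, h4⟩ := exists_lift2 f hT hT hP' hx hy h1 h2
    exact ⟨_, hT.mul P hP _ (hT.conj x hx n) _ (hT.conj y hy m) h3 h4,
      by rw [map_mul, map_conj_ker f hn, map_conj_ker f hm]⟩

theorem Pair.image {T₁ T₂ : Set G} (h : Pair T₁ T₂)
    (hk : ∀ P : Subgroup G, IsPGroup 2 P → ∀ x ∈ T₁, ∀ y ∈ T₂, x ∈ P → y ∈ P → f x = f y →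
      f x = 1) : Pair (f '' T₁) (f '' T₂) where
  f₁ := h.f₁.image hf
  f₂ := h.f₂.image hf
  comm := by
    rintro P' hP' _ ⟨x, hx, rfl⟩ _ ⟨y, hy, rfl⟩ h1 h2
    obtain ⟨P, hP, n, hn, m, hm, h3, h4⟩ := exists_lift2 f h.f₁ h.f₂ hP' hx hy h1 h2
    have := congrArg f (h.comm P hP _ (h.f₁.conj x hx n) _ (h.f₂.conj y hy m) h3 h4)
    rwa [map_mul, map_mul f (m * y * m⁻¹), map_conj_ker f hn, map_conj_ker f hm] at this
  disj := by
    rintro _ ⟨x, hx, rfl⟩ ⟨y, hy, e⟩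
    obtain ⟨P, hP, n, hn, m, hm, h3, h4⟩ := exists_lift2 f h.f₁ h.f₂ ((h.f₁.image hf).two _
      ⟨x, hx, rfl⟩) hx hy (mem_zpowers _) (e ▸ mem_zpowers _)
    have := hk P hP _ (h.f₁.conj x hx n) _ (h.f₂.conj y hy m) h3 h4
      (by rw [map_conj_ker f hn, map_conj_ker f hm, e])
    rwa [map_conj_ker f hn] at this

theorem Prd.image {T₁ T₂ : Set G} (h : Prd T₁ T₂ ⊤) (hp : Pair (f '' T₁) (f '' T₂)) :
    Prd (f '' T₁) (f '' T₂) ⊤ := by
  obtain ⟨P, hP⟩ := Sylow_exists 2 (⊤ : Subgroup G)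
  have h1 := morphim_pSylow f hP
  rw [map_top_of_surjective f hf] at h1
  refine prd_of hp h1 ?_
  rintro _ ⟨x, hx, rfl⟩
  obtain ⟨a, ha, b, hb, h2, h3, rfl⟩ := h P hP x hx
  exact ⟨_, ⟨a, ha, rfl⟩, _, ⟨b, hb, rfl⟩, mem_map_of_mem f h2, mem_map_of_mem f h3, map_mul f a b⟩

end image

/-- The transfer to `H/K` separates `g` from the elements all of whose fused powers lie in `K`. -/
theorem transfer_sep {H K : Subgroup G}
    (hab : ∀ x ∈ H, ∀ y ∈ H, x * y * x⁻¹ * y⁻¹ ∈ K) (hidx : ¬ 2 ∣ H.index) {g : G} (hgH : g ∈ H)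
    (hgK : g ∉ K) {k : ℕ} (hgp : g ^ 2 ^ k = 1)
    (hctrl : ∀ (m : ℕ) (a : G), a * g ^ m * a⁻¹ ∈ H → (a * g ^ m * a⁻¹) * (g ^ m)⁻¹ ∈ K) :
    ∃ N : Subgroup G, N.Normal ∧ g ∉ N ∧
      ∀ y ∈ H, (∀ (m : ℕ) (a : G), a * y ^ m * a⁻¹ ∈ H → a * y ^ m * a⁻¹ ∈ K) → y ∈ N := by
  have hc : commutator H ≤ K.subgroupOf H := by
    rw [commutator_def, commutator_le]
    intro x _ y _
    exact hab x x.2 y y.2
  have hn : (K.subgroupOf H).Normal := Normal.of_commutator_le _ hc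
  have hcomm : IsMulCommutative (H ⧸ K.subgroupOf H) :=
    Normal.quotient_commutative_iff_commutator_le.mpr hc
  open scoped IsMulCommutative in
  let V : G →* H ⧸ K.subgroupOf H := MonoidHom.transfer (QuotientGroup.mk' (K.subgroupOf H))
  open scoped IsMulCommutative in
  have hV : ∀ g (hgH : g ∈ H), (∀ (m : ℕ) (a : G), a * g ^ m * a⁻¹ ∈ H →
      (a * g ^ m * a⁻¹) * (g ^ m)⁻¹ ∈ K) →
      V g = (QuotientGroup.mk' (K.subgroupOf H) ⟨g, hgH⟩) ^ H.index := fun g hgH hctrl => by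
    refine Tr.transfer_eq_pow_of_control _ ⟨g, hgH⟩ fun m a h => ?_
    rw [← map_pow, QuotientGroup.mk'_apply, QuotientGroup.mk'_apply, eq_comm,
      QuotientGroup.eq_iff_div_mem, mem_subgroupOf]
    have := inv_mem (hctrl m a⁻¹ (by simpa using h))
    simpa [div_eq_mul_inv, mul_assoc] using this
  open scoped IsMulCommutative in
  refine ⟨V.ker, inferInstance, fun hg => hgK ?_, fun y hy h => ?_⟩
  · rw [MonoidHom.mem_ker, hV g hgH hctrl] at hg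
    have h1 : (QuotientGroup.mk' (K.subgroupOf H) ⟨g, hgH⟩) ^ 2 ^ k = 1 := by
      rw [← map_pow]
      have : (⟨g, hgH⟩ : H) ^ 2 ^ k = 1 := Subtype.ext hgp
      rw [this, map_one]
    have h2 : orderOf (QuotientGroup.mk' (K.subgroupOf H) ⟨g, hgH⟩) = 1 :=
      Nat.eq_one_of_dvd_coprimes
        (((Nat.Prime.coprime_iff_not_dvd Nat.prime_two).2 hidx).pow_left k)
        (orderOf_dvd_of_pow_eq_one h1) (orderOf_dvd_of_pow_eq_one hg)
    rw [orderOf_eq_one_iff, QuotientGroup.mk'_apply, QuotientGroup.eq_one_iff] at h2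
    exact h2
  · have h1 : ∀ m : ℕ, y ^ m ∈ K := fun m => by simpa using h m 1 (by simpa using pow_mem hy m)
    have h2 : QuotientGroup.mk' (K.subgroupOf H) ⟨y, hy⟩ = 1 := by
      rw [QuotientGroup.mk'_apply, QuotientGroup.eq_one_iff, mem_subgroupOf]
      simpa using h1 1
    rw [MonoidHom.mem_ker, hV y hy fun m a ha => mul_mem (h m a ha) (inv_mem (h1 m)), h2, one_pow]

/-- transfer to the first factor of a product -/
theorem transfer_prd {T₁ T₂ : Set G} (h : Pair T₁ T₂) (hp : Prd T₁ T₂ ⊤) (h2 : closure T₂ = ⊤)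
    {K : Subgroup G} (hK : ∀ x ∈ T₁, ∀ g : G, g * x * g⁻¹ * x⁻¹ ∈ K) {x : G} (hx : x ∈ T₁) :
    x ∈ K := by
  obtain ⟨S, hS, hxS⟩ := Sylow_superset (K := ⊤) le_top (h.f₁.two x hx)
  have hxS' := hxS (mem_zpowers x)
  have m₁ := fun {y} => h.f₁.mem_NN_iff hS.pgroup (x := y)
  have m₂ := fun {y} => h.f₂.mem_NN_iff hS.pgroup (x := y)
  have hc : NN T₂ S ≤ 𝐂(NN T₁ S) := centsP.2 fun b hb a ha =>
    (h.comm S hS.pgroup a (m₁.1 ha).1 b (m₂.1 hb).1 (m₁.1 ha).2 (m₂.1 hb).2).symm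
  have hs : NN T₁ S ⊔ NN T₂ S = S := le_antisymm (sup_le (NN_le _ _) (NN_le _ _)) fun y hy => by
    obtain ⟨a, ha, b, hb, h1, h3, rfl⟩ := hp S hS y hy
    exact mul_mem_sup (mem_NN ha h1) (mem_NN hb h3)
  have hcomm : ∀ y ∈ T₁, y ∈ S → ∀ g, g * y * g⁻¹ ∈ S → g * y * g⁻¹ * y⁻¹ ∈ K ⊓ NN T₁ S :=
    fun y hy hyS g hg => mem_inf.2 ⟨hK y hy g, mul_mem (mem_NN (h.f₁.conj y hy g) hg)
      (inv_mem (mem_NN hy hyS))⟩
  by_contra hxK
  obtain ⟨k, hk⟩ := Tr.isPGroup_iff_forall_mem.1 hS.pgroup x hxS'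
  obtain ⟨N, hN, hxN, hTN⟩ := transfer_sep (H := S) (K := (K ⊓ NN T₁ S) ⊔ NN T₂ S) (g := x)
    (k := k) (by
      rw [← commg_le, ← hs, der1_joing_cent hc, hs]
      refine sup_le_sup (commg_le.2 fun a ha b hb => hcomm b (m₁.1 hb).1 (m₁.1 hb).2 a ?_)
        (der_sub _)
      exact mul_mem (mul_mem (m₁.1 ha).2 (m₁.1 hb).2) (inv_mem (m₁.1 ha).2))
    (by simpa using hS.not_dvd) hxS' (fun hm => by
      obtain ⟨a, ha, b, hb, e⟩ := (mem_join_norm (cents_norm (centsS inf_le_right hc))).1 hm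
      have h3 : b ∈ NN T₁ S := by
        rw [← inv_mul_eq_iff_eq_mul.2 e.symm]
        exact mul_mem (inv_mem ha.2) (mem_NN hx hxS')
      rw [h.disj b (m₁.1 h3).1 (m₂.1 hb).1, mul_one] at e
      exact hxK (e ▸ ha.1)) hk
    fun m a ha => mem_sup_left (hcomm _ (h.f₁.pow hx m) (pow_mem hxS' m) a ha)
  have : closure T₂ ≤ N := (closure_le _).2 fun t ht => by
    obtain ⟨g, -, hg⟩ := Sylow_Jsub hS le_top (h.f₂.two t ht)
    have h3 := hTN _ (hg (Tr.conj_mem_cj.2 (mem_zpowers t))) fun m a ha => mem_sup_right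
      (mem_NN (h.f₂.conj _ (h.f₂.pow (h.f₂.conj t ht g) m) a) ha)
    simpa [mul_assoc] using hN.conj_mem _ h3 g⁻¹
  exact hxN (this (h2 ▸ mem_top x))

end Cfsg.Agent.SF.GP
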