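import Cfsg.Agent.Lib.SF.Gen
import Cfsg.Agent.Lib.Transfer.Focal

/-! Lemma G of `docs/SF_PLAN.md`: fixed points of a four-group on `[X,E]`. -/

set_option autoImplicit false
set_option linter.unusedSectionVars false

namespace Cfsg.Agent.SF.GP

open Subgroup Cfsg.Agent.FT

universe u

section
variable {G : Type*} [Group G]

/-- the right hand side of Lemma G -/
def zG (E X : Subgroup G) : Subgroup G :=
  ⨆ e ∈ {e : G | e ∈ E ∧ e ≠ 1}, (⁅X ⊓ 𝐂[e], E⁆ ⊓ 𝐂(E))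

theorem le_zG {E X : Subgroup G} {e : G} (he : e ∈ E) (h1 : e ≠ 1) :
    ⁅X ⊓ 𝐂[e], E⁆ ⊓ 𝐂(E) ≤ zG E X :=
  le_iSup₂_of_le (f := fun e (_ : e ∈ {e : G | e ∈ E ∧ e ≠ 1}) => ⁅X ⊓ 𝐂[e], E⁆ ⊓ 𝐂(E)) e
    ⟨he, h1⟩ le_rfl

theorem zG_le {E X Y : Subgroup G} (h : ∀ e ∈ E, e ≠ 1 → ⁅X ⊓ 𝐂[e], E⁆ ⊓ 𝐂(E) ≤ Y) :
    zG E X ≤ Y := iSup₂_le fun e he => h e he.1 he.2

theorem zG_mono {E X Y : Subgroup G} (h : X ≤ Y) : zG E X ≤ zG E Y :=
  zG_le fun _ he h1 => (inf_le_inf_right _ (commSg E (inf_le_inf_right _ h))).trans (le_zG he h1)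

theorem zG_cent (E X : Subgroup G) : zG E X ≤ 𝐂(E) := zG_le fun _ _ _ => inf_le_right

theorem zG_sub {E X : Subgroup G} (h : E ≤ 𝐍(X)) : zG E X ≤ X :=
  zG_le fun _ _ _ => inf_le_left.trans ((commSg E inf_le_left).trans (commg_subl.2 h))

theorem zG_norm (E X : Subgroup G) : X ⊓ 𝐂(E) ≤ 𝐍(zG E X) :=
  norms_iSup fun _ => norms_iSup fun he => normsI
    (normsR (normsG (inf_le_inf_left X (cent_le_cent1 he.1))) (cents_norm inf_le_right))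
    (normsG inf_le_right)

variable [Finite G]

theorem le_of_le_sup_der {C Z : Subgroup G} (hs : Group.IsSolvable C) (hn : C ≤ 𝐍(Z))
    (h : C ≤ Z ⊔ ⁅C, C⁆) : C ≤ Z := by
  rw [← quotient_eq_bot hn]
  by_contra hne
  have h1 := sol_der1_proper (quotient_sol Z hs) hne
  rw [← quotientR hn hn] at h1
  exact h1.not_ge ((quotientSK hn ((der_sub C).trans hn)).2 h)

theorem center_der_le {p : ℕ} [Fact p.Prime] {X P : Subgroup G} (hP : IsSylowIn p P X) {m : G}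
    (hm : m ∈ P) (hc : m ∈ 𝐂(X)) (hd : m ∈ ⁅X, X⁆) : m ∈ ⁅P, P⁆ := by
  by_contra hne
  obtain ⟨k, hk⟩ := Tr.isPGroup_iff_forall_mem.1 hP.pgroup m hm
  refine Tr.not_mem_commutator_of_control (p := p) (G := X) (H := P.subgroupOf X)
    (K := ⁅P, P⁆.subgroupOf X) (g := ⟨m, hP.le hm⟩) (k := k) (fun x hx y hy => mem_commg hx hy)
    hP.not_dvd hm hne (Subtype.ext hk) (fun n a _ => ?_) ?_
  · have : a * (⟨m, hP.le hm⟩ : X) ^ n = (⟨m, hP.le hm⟩ : X) ^ n * a :=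
      Subtype.ext (mem_cent.1 (pow_mem hc n) a a.2)
    rw [this]
    simp
  · rw [← map_subtype_commutator] at hd
    obtain ⟨y, hy, e⟩ := hd
    exact (Subtype.ext e : y = ⟨m, hP.le hm⟩) ▸ hy

theorem four_qt {E N : Subgroup G} (hE : IsKleinFour E) (hN : Odd #|N|) (hn : E ≤ 𝐍(N)) :
    IsKleinFour (E /c N) :=
  TwoGrp.isKleinFour_of_equiv
    (quotient_isog hn (coprime_TIg (cop2 hN (TwoGrp.kleinFour_isPGroup hE)))) hE

theorem lemU {E X Y : Subgroup G} (hs : Group.IsSolvable X) (hE : IsKleinFour E) (hX : Odd #|X|)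
    (hn : E ≤ 𝐍(X)) (hXE : ⁅X, E⁆ = X) (hY : Y ⊴ X) (hEY : E ≤ 𝐍(Y)) (hc : Y ≤ 𝐂(⁅Y, X⁆)) :
    ⁅Y, X⁆ ⊓ 𝐂(E) ≤ zG E X := by
  have hE2 := TwoGrp.kleinFour_isPGroup hE
  obtain ⟨γ, hγ⟩ : ∃ γ, γ = ⁅Y, X⁆ := ⟨_, rfl⟩
  rw [← hγ] at hc ⊢
  have hγY : γ ≤ Y := hγ ▸ commg_subl.2 hY.nz
  have hEγ : E ≤ 𝐍(γ) := hγ ▸ normsR hEY hn
  have hXγ : X ≤ 𝐍(γ) := hγ ▸ commg_normr Y X
  have hab : IsMulCommutative γ := abelianE.2 (hγY.trans hc)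
  have hγo : Odd #|γ| := odd_of_le (hγY.trans hY.le) hX
  obtain ⟨W, hW⟩ : ∃ W, W = ⁅γ, E⁆ ⊔ (γ ⊓ zG E X) := ⟨_, rfl⟩
  have hWγ : W ≤ γ := hW ▸ sup_le (commg_subl.2 hEγ) inf_le_left
  have hYW : Y ≤ 𝐍(W) := cents_norm (centsS hWγ hc)
  have key : ∀ f ∈ E, f ≠ 1 → ⁅Y, ⁅X ⊓ 𝐂[f], E⁆⁆ ≤ W := fun f hf hf1 => by
    obtain ⟨Xf, hXf⟩ : ∃ Xf, Xf = ⁅X ⊓ 𝐂[f], E⁆ := ⟨_, rfl⟩
    rw [← hXf]
    have hXfX : Xf ≤ X := hXf ▸ (commSg E inf_le_left).trans hXE.le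
    have hXfc : Xf ≤ 𝐂(zpowers f) := by
      rw [cent_cycle, hXf]; exact comm_subG inf_le_right (four_cent1 hE hf)
    have hF : zpowers f ≤ E := cycle_subG.2 hf
    refine comm_le_of_le_cmod (le_of_comm_cent (odd_of_le hY.le hX) (pgroup_sub hF hE2)
      (hF.trans hEY) (le_cmod ((commg_subl.2 (hF.trans hEY)).trans hYW) ?_)
      (le_cmod (inf_le_left.trans hYW) ?_))
    · refine (three_subgroup_mod (N := ⁅γ, zpowers f⁆) (commg_normr _ _)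
        (normsR (hXfX.trans hXγ) (cents_norm hXfc))
        (cents_norm (centsS (commg_subl.2 (hF.trans hEγ)) hc)) ?_ ?_).trans
        (hW ▸ le_sup_of_le_left (commgS γ hF))
      · rw [commG1P.2 (centsC.1 hXfc)]
        simp
      · exact commSg _ (by rw [commGC, hγ]; exact commgS Y hXfX)
    · have h1 : ⁅Y ⊓ 𝐂(zpowers f), Xf⁆ ≤ γ := hγ ▸ commgSS inf_le_left hXfX
      have h2 : ⁅Y ⊓ 𝐂(zpowers f), Xf⁆ ≤ Xf := commg_subr.2 (by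
        rw [hXf, cent_cycle]
        exact (inf_le_inf_right _ hY.le).trans (commg_norml _ _))
      refine le_of_comm_cent (odd_of_le h1 hγo) hE2 (normsR (normsI hEY (norms_cent (cents_norm
        (centsS hF (four_cent hE))))) (hXf ▸ commg_normr _ _))
        (hW ▸ le_sup_of_le_left (commSg E h1)) (hW ▸ le_sup_of_le_right (le_inf
          (inf_le_left.trans h1) ((inf_le_inf_right _ (h2.trans hXf.le)).trans (le_zG hf hf1))))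
  have h1 : X ≤ cmod W Y := by
    rw [← hXE]
    refine gen_comm hs hE hE2 hX hn hn fun f hf hf1 => le_cmod
      (commg_le_norms (key f hf hf1) (hWγ.trans hγY)) ?_
    rw [commGC]
    exact key f hf hf1
  have h2 : γ ≤ W := by
    rw [hγ, commGC]
    exact comm_le_of_le_cmod h1
  intro w hw
  obtain ⟨a, ha, z, hz, rfl⟩ := (mem_join_norm (inf_le_left.trans (commg_norml γ E))).1
    (hW ▸ h2 hw.1)
  have h3 : a ∈ ⁅γ, E⁆ ⊓ 𝐂(E) :=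
    ⟨ha, (𝐂(E).mul_mem_cancel_right (zG_cent E X hz.2)).1 hw.2⟩
  rw [coprime_abel_cent_TI hEγ (cop2 hγo hE2) hab, mem_bot] at h3
  rw [h3, one_mul]
  exact hz.2

theorem stepK {E X N : Subgroup G} (hE : IsKleinFour E) (hX : Odd #|X|)
    (hn : E ≤ 𝐍(X)) (hXE : ⁅X, E⁆ = X) (hN : N ⊴ X) (hEN : E ≤ 𝐍(N))
    (ih : ⁅X /c N, E /c N⁆ ⊓ 𝐂(E /c N) ≤ zG (E /c N) (X /c N)) :
    X ⊓ 𝐂(E) ≤ (N ⊓ 𝐂(E)) ⊔ zG E X := by
  have hE2 := TwoGrp.kleinFour_isPGroup hE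
  have hNo := odd_of_le hN.le hX
  have hZ : zG E X ≤ 𝐍(N) := (zG_sub hn).trans hN.nz
  rw [group_modr hZ (zG_cent E X)]
  refine le_inf ((quotientSK (inf_le_left.trans hN.nz) hZ).1 ?_) inf_le_right
  rw [← quotientR hN.nz hEN, hXE] at ih
  refine (quotient_subcent N X E).trans (ih.trans (zG_le fun e' he' h1 => ?_))
  obtain ⟨e, he, rfl⟩ := (mem_qt_of_le hEN).1 he'
  have he1 : e ≠ 1 := fun h => h1 (by rw [h, cst_one])
  rw [← coprime_quotient_cent1 hN.le (hEN he)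
      ((cop2 hNo hE2).coprime_dvd_right (order_dvdG he)),
    ← quotientR (inf_le_left.trans hN.nz) hEN,
    ← coprime_norm_quotient_cent (commg_normr _ _) hEN (cop2 hNo hE2) (Or.inl (pgroup_sol hE2))]
  exact quotientS N (le_zG he he1)

end

theorem lemG_aux [Fact OddOrderThm.{u}] (n : ℕ) : ∀ (G : Type u) [Group G] [Finite G]
    (E X : Subgroup G), #|X| = n → IsKleinFour E → Odd #|X| → E ≤ 𝐍(X) →
      ⁅X, E⁆ ⊓ 𝐂(E) ≤ zG E X := by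
  induction n using Nat.strong_induction_on with
  | _ n ih =>
  intro G _ _ E X hn hE hX hEX
  have hE2 := TwoGrp.kleinFour_isPGroup hE
  have hs := odd_sol hX
  have ih1 : ∀ U, U < X → E ≤ 𝐍(U) → ⁅U, E⁆ ⊓ 𝐂(E) ≤ zG E X := fun U hU hEU =>
    (ih _ (hn ▸ proper_card hU) G E U rfl hE (odd_of_le hU.le hX) hEU).trans (zG_mono hU.le)
  by_cases hXE : ⁅X, E⁆ = X
  swap
  · rw [← commGid2 hX hE2 hEX]
    exact ih1 _ (lt_of_le_of_ne (commg_subl.2 hEX) hXE) (commg_normr X E)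
  rw [hXE]
  have hK : ∀ N, N ⊴ X → N ≠ ⊥ → E ≤ 𝐍(N) → X ⊓ 𝐂(E) ≤ (N ⊓ 𝐂(E)) ⊔ zG E X :=
    fun N hN hN1 hEN => stepK hE hX hEX hXE hN hEN (ih _ (hn ▸ ltn_quotient hN1 hN.le) (Coset N)
      _ _ rfl (four_qt hE (odd_of_le hN.le hX) hEN) (quotient_odd N hX) (quotient_norms N hEX))
  by_cases hA : ∃ Y, Y ⊴ X ∧ E ≤ 𝐍(Y) ∧ Y ≤ 𝐂(⁅Y, X⁆) ∧ ⁅Y, X⁆ ≠ ⊥
  · obtain ⟨Y, hY, hEY, hc, hne⟩ := hA
    exact (hK _ (hY.commutator (Nrm.refl X)) hne (normsR hEY hEX)).trans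
      (sup_le (lemU hs hE hX hEX hXE hY hEY hc) le_rfl)
  push Not at hA
  by_cases hab : IsMulCommutative X
  · have := coprime_abel_cent_TI hEX (cop2 hX hE2) hab
    rw [hXE] at this
    rw [this]
    exact bot_le
  have hnil : ¬ Group.IsNilpotent X := fun hnil => hab (by
    have h1 := commG1P.1 (hA _ (ucn2_normal X) (hEX.trans (ucn2_char X))
      (centsS (Z2_comm X) ((ucn2_sub X).trans (cent_center X))))
    have h2 : 𝐙(X /c 𝐙(X)) = ⊥ := by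
      rw [← quotient_Z2]; exact quotientS1 (le_inf (ucn2_sub X) h1)
    rw [center_nil_eq1 (quotient_nil _ hnil), quotient_eq_bot (center_normal X).nz] at h2
    exact abelianE.2 (h2.trans inf_le_right))
  have hX1 : X ≠ ⊥ := fun h => hab (h ▸ abelian1)
  obtain ⟨M, hM, hMX⟩ := minnormal_exists (L := X ⊔ E) hX1 (sup_le (normG X) hEX)
  obtain ⟨q, hq, hMq⟩ := minnormal_solvable hM hMX hs
  have : Fact q.Prime := ⟨hq⟩
  have hMn : M ⊴ X := ⟨hMX, le_sup_left.trans hM.nz⟩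
  have hMc := commG1P.1 (hA M hMn (le_sup_right.trans hM.nz)
    (centsS (commg_subl.2 hMn.nz) (abelem_cent hMq)))
  obtain ⟨P, hP, hEP⟩ := sol_coprime_Sylow_exists q (Or.inr hs) hEX (cop2 hX hE2)
  have hPX : P < X := lt_of_le_of_ne hP.le fun h => hnil (h ▸ pgroup_nil hP.pgroup)
  have hd : X ⊓ 𝐂(E) ≤ ⁅X, X⁆ := by
    have hn' : E ≤ 𝐍(⁅X, X⁆) := norms_der hEX
    rw [← quotient_sub1 (inf_le_left.trans (der_norm X)), ← coprime_abel_cent_TI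
      (quotient_norms _ hEX) (coprime_quotient _ (cop2 hX hE2)) (der_abelian X),
      ← quotientR (der_norm X) hn', hXE]
    exact quotient_subcent _ X E
  refine le_of_le_sup_der (solvableS inf_le_left hs) (zG_norm E X)
    ((hK M hMn hM.ne (le_sup_right.trans hM.nz)).trans (sup_le (fun m hm => ?_) le_sup_left))
  have h1 := center_der_le hP (normal_sub_Sylow hP (abelem_pgroup hMq) hMn hm.1) (hMc hm.1)
    (hd ⟨hMX hm.1, hm.2⟩)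
  have h2 : P ⊓ 𝐂(E) ≤ 𝐍(⁅P, E⁆) := inf_le_left.trans (commg_norml P E)
  have h3 : ⁅P, P⁆ ≤ ⁅P, E⁆ ⊔ ⁅P ⊓ 𝐂(E), P ⊓ 𝐂(E)⁆ := by
    have h4 := der1_sup h2
    rw [(cent_prod2 (odd_of_le hP.le hX) hE2 hEP).sup] at h4
    rw [h4]
    exact sup_le (le_sup_of_le_left (sup_le (der_sub _) (commg_subl.2 h2))) le_sup_right
  obtain ⟨a, ha, c, hc, rfl⟩ := (mem_join_norm ((der_sub _).trans h2)).1 (h3 h1)
  have h5 : c ∈ 𝐂(E) := (der_sub _ hc).2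
  exact mul_mem (mem_sup_left (ih1 P hPX hEP ⟨ha, (𝐂(E).mul_mem_cancel_right h5).1 hm.2⟩))
    (mem_sup_right (dergS (inf_le_inf_right _ hP.le) hc))

/-- Lemma G -/
theorem lemG4 [Fact OddOrderThm.{u}] {G : Type u} [Group G] [Finite G] {E X : Subgroup G}
    (hE : IsKleinFour E) (hX : Odd #|X|) (hn : E ≤ 𝐍(X)) : ⁅X, E⁆ ⊓ 𝐂(E) ≤ zG E X :=
  lemG_aux _ G E X rfl hE hX hn

theorem lemG_of (hFT : OddOrderThm.{u}) : LemGStmt.{u} := fun _ _ _ _ _ hE h4 hX hn =>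
  haveI : Fact OddOrderThm.{u} := ⟨hFT⟩
  lemG4 (four_of_abelem hE h4) hX hn

end Cfsg.Agent.SF.GP
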