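import Cfsg.Agent.Lib.SF.Fam
import Cfsg.Agent.Lib.Transfer.StrongEmb

/-! Proposition D of `docs/SF_PLAN.md`: the commuting graph on the involutions of a family. -/

set_option autoImplicit false
set_option linter.unusedSectionVars false
set_option linter.unusedVariables false

namespace Cfsg.Agent.SF.GP

open Subgroup Cfsg.Agent.FT

universe u

section
variable {G : Type*} [Group G]

/-- the involutions of `U` -/
def Inv (U : Set G) (t : G) : Prop := t ∈ U ∧ orderOf t = 2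

/-- edges of the commuting graph -/
def Adj (U : Set G) (x y : G) : Prop := Inv U x ∧ Inv U y ∧ x * y = y * x

/-- connectedness in the commuting graph on the involutions of `U` -/
def Conn (U : Set G) : G → G → Prop := Relation.ReflTransGen (Adj U)

/-- the commuting graph is not connected -/
def Dis (U : Set G) : Prop := ∃ a b, Inv U a ∧ Inv U b ∧ ¬ Conn U a b

theorem Inv.sq {U : Set G} {t : G} (h : Inv U t) : t * t = 1 := Tr.mul_self_of_orderOf_two h.2
theorem Inv.ne {U : Set G} {t : G} (h : Inv U t) : t ≠ 1 := Tr.ne_one_of_orderOf_two h.2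
theorem Inv.inv_eq {U : Set G} {t : G} (h : Inv U t) : t⁻¹ = t := Tr.inv_eq_of_mul_self h.sq
theorem Inv.two {U : Set G} {t : G} (h : Inv U t) : IsPGroup 2 (zpowers t) := pgroup_invol h.sq
theorem Inv.mono {U V : Set G} {t : G} (h : Inv U t) (ht : t ∈ V) : Inv V t := ⟨ht, h.2⟩
theorem Fam.inv_conj {T : Set G} (hT : Fam T) {t : G} (h : Inv T t) (g : G) :
    Inv T (g * t * g⁻¹) := ⟨hT.conj t h.1 g, by rw [Tr.orderOf_conj, h.2]⟩

theorem Conn.refl (U : Set G) (t : G) : Conn U t t := Relation.ReflTransGen.refl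
theorem Conn.trans {U : Set G} {t u v : G} (h : Conn U t u) (h' : Conn U u v) : Conn U t v :=
  Relation.ReflTransGen.trans h h'
theorem conn_of {U : Set G} {t u : G} (ht : Inv U t) (hu : Inv U u) (h : t * u = u * t) :
    Conn U t u := Relation.ReflTransGen.single ⟨ht, hu, h⟩
theorem Conn.symm {U : Set G} {t u : G} (h : Conn U t u) : Conn U u t := by
  induction h with
  | refl => exact Conn.refl _ _
  | tail _ h ih => exact (conn_of h.2.1 h.1 h.2.2.symm).trans ih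
theorem Conn.inv {U : Set G} {t u : G} (h : Conn U t u) (ht : Inv U t) : Inv U u := by
  induction h with
  | refl => exact ht
  | tail _ h _ => exact h.2.1

theorem Conn.map {G' : Type*} [Group G'] {U : Set G} {V : Set G'} (f : G →* G')
    (hf : ∀ x, Inv U x → Inv V (f x)) {t u : G} (h : Conn U t u) : Conn V (f t) (f u) := by
  induction h with
  | refl => exact Conn.refl _ _
  | tail _ h ih =>
    exact ih.trans (conn_of (hf _ h.1) (hf _ h.2.1) (by rw [← map_mul, h.2.2, map_mul]))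

theorem Conn.mono {U V : Set G} (hf : ∀ x, Inv U x → x ∈ V) {t u : G} (h : Conn U t u) :
    Conn V t u := h.map (MonoidHom.id G) fun x hx => hx.mono (hf x hx)

theorem Conn.conj {U : Set G} {g : G} (hg : ∀ x ∈ U, g * x * g⁻¹ ∈ U) {t u : G}
    (h : Conn U t u) : Conn U (g * t * g⁻¹) (g * u * g⁻¹) :=
  h.map (MulAut.conj g).toMonoidHom fun x hx => ⟨hg x hx.1, (Tr.orderOf_conj g x).trans hx.2⟩

theorem Conn.subtype {T : Set G} {X : Subgroup G} {t u : G} (h : Conn (T ∩ X) t u) (ht : t ∈ X) :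
    ∃ hu : u ∈ X, Conn (X.subtype ⁻¹' T) ⟨t, ht⟩ ⟨u, hu⟩ := by
  induction h with
  | refl => exact ⟨ht, Conn.refl _ _⟩
  | tail _ h ih =>
    obtain ⟨hu, ih⟩ := ih
    exact ⟨h.2.1.1.2, ih.trans (conn_of ⟨h.1.1.1, by rw [← orderOf_coe]; exact h.1.2⟩
      ⟨h.2.1.1.1, by rw [← orderOf_coe]; exact h.2.1.2⟩ (Subtype.ext h.2.2))⟩

theorem Conn.coe {T : Set G} {X : Subgroup G} {t u : X} (h : Conn (X.subtype ⁻¹' T) t u) :
    Conn (T ∩ X) (t : G) (u : G) :=
  h.map X.subtype fun x hx => ⟨Set.mem_inter hx.1 x.2, (orderOf_coe x).trans hx.2⟩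

theorem Dis.subtype {T : Set G} {X : Subgroup G} (h : Dis (T ∩ X)) : Dis (X.subtype ⁻¹' T) := by
  obtain ⟨a, b, ha, hb, h⟩ := h
  exact ⟨⟨a, ha.1.2⟩, ⟨b, hb.1.2⟩, ⟨ha.1.1, by rw [← orderOf_coe]; exact ha.2⟩,
    ⟨hb.1.1, by rw [← orderOf_coe]; exact hb.2⟩, fun h' => h h'.coe⟩

/-- the stabilizer of the component of `t` -/
def stab {T : Set G} (hT : Fam T) (t : G) : Subgroup G where
  carrier := {g | Conn T t (g * t * g⁻¹)}
  one_mem' := by simpa using Conn.refl T t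
  mul_mem' := by
    intro g h hg hh
    have := Conn.trans hg (Conn.conj (g := g) (fun x hx => hT.conj x hx g) hh)
    simpa [mul_assoc] using this
  inv_mem' := by
    intro g hg
    have := (Conn.conj (g := g⁻¹) (fun x hx => hT.conj x hx g⁻¹) hg).symm
    simpa [mul_assoc] using this

theorem mem_stab {T : Set G} {hT : Fam T} {t g : G} : g ∈ stab hT t ↔ Conn T t (g * t * g⁻¹) :=
  Iff.rfl

theorem mem_stab_of {T : Set G} (hT : Fam T) {t u g : G} (h : Conn T t u)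
    (h' : Conn T t (g * u * g⁻¹)) : g ∈ stab hT t :=
  h'.trans (h.conj fun x hx => hT.conj x hx g).symm

theorem cent_le_stab {T : Set G} (hT : Fam T) {t u : G} (h : Conn T t u) : 𝐂[u] ≤ stab hT t :=
  fun g hg => mem_stab_of hT h (by rwa [cent1_conj.1 hg])

variable [Finite G]

theorem Fam.exists_central {T : Set G} (hT : Fam T) {P : Subgroup G} (hP : IsPGroup 2 P) {t : G}
    (ht : t ∈ T) (htP : t ∈ P) (h1 : t ≠ 1) :
    ∃ z, Inv T z ∧ z ∈ P ∧ ∀ x ∈ P, x * z = z * x := by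
  obtain ⟨z, hz, hz2⟩ := Cauchy Nat.prime_two (pgroup_pdiv (pgroup_sub
    (inf_le_right.trans inf_le_left) hP) (meet_center_pgroup hP (hT.NN_nrm P)
      (trivgPn.2 ⟨t, mem_NN ht htP, h1⟩)))
  exact ⟨z, ⟨((hT.mem_NN_iff hP).1 hz.1).1, hz2⟩, hz.2.1, mem_cent.1 hz.2.2⟩

/-- involutions of the family in a 2-subgroup are connected -/
theorem conn2 {T U : Set G} (hT : Fam T) {P : Subgroup G} (hP : IsPGroup 2 P) (hUT : U ⊆ T)
    (hU : ∀ z ∈ T, z ∈ P → z ∈ U) {t u : G} (ht : Inv U t) (hu : Inv U u) (htP : t ∈ P)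
    (huP : u ∈ P) : Conn U t u := by
  obtain ⟨z, hz, hzP, hc⟩ := hT.exists_central hP (hUT ht.1) htP ht.ne
  exact (conn_of ht (hz.mono (hU z hz.1 hzP)) (hc t htP)).trans
    (conn_of (hz.mono (hU z hz.1 hzP)) hu (hc u huP).symm)

theorem conn2' {T : Set G} (hT : Fam T) {P : Subgroup G} (hP : IsPGroup 2 P) {t u : G}
    (ht : Inv T t) (hu : Inv T u) (htP : t ∈ P) (huP : u ∈ P) : Conn T t u :=
  conn2 hT hP subset_rfl (fun _ h _ => h) ht hu htP huP

theorem odd_of_not_conn {T : Set G} (hT : Fam T) {t u : G} (ht : Inv T t) (hu : Inv T u)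
    (h : ¬ Conn T t u) : Odd (orderOf (t * u)) := by
  by_contra ho
  obtain ⟨m, -, h2, h3, h4⟩ := Tr.exists_central_of_even ht.sq hu.sq (Nat.not_odd_iff_even.1 ho)
  have h5 : (t * u) ^ m * u ∈ T := by
    rcases Tr.exists_conj_pow_mul ht.sq hu.sq m with ⟨-, k, -, e⟩ | ⟨-, k, -, e⟩
    · exact e ▸ hT.conj u hu.1 k
    · exact e ▸ hT.conj t ht.1 k
  have h6 : Inv T ((t * u) ^ m) := ⟨by
    have := hT.mul_comm h5 hu.1 (by rw [← mul_assoc, h4.eq])
    rwa [mul_assoc, hu.sq, mul_one] at this, h2⟩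
  exact h ((conn_of ht h6 h3.eq.symm).trans (conn_of h6 hu h4.eq))

theorem one_class {T : Set G} (hT : Fam T) (hd : Dis T) {t u : G} (ht : Inv T t) (hu : Inv T u) :
    ∃ g : G, g * t * g⁻¹ = u := by
  have key : ∀ t u, Inv T t → Inv T u → ¬ Conn T t u → ∃ g : G, g * u * g⁻¹ = t :=
    fun t u ht hu h => by
      obtain ⟨k, -, e⟩ := Tr.exists_conj_of_odd ht.sq hu.sq (odd_of_not_conn hT ht hu h)
      exact ⟨k, e⟩
  by_cases h : Conn T u t
  · obtain ⟨v, hv, h'⟩ : ∃ v, Inv T v ∧ ¬ Conn T v t := by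
      obtain ⟨a, b, ha, hb, hab⟩ := hd
      by_contra hcon
      push Not at hcon
      exact hab ((hcon a ha).trans (hcon b hb).symm)
    obtain ⟨g, rfl⟩ := key v t hv ht h'
    obtain ⟨k, e⟩ := key u _ hu hv fun h'' => h' (h''.symm.trans h)
    exact ⟨k * g, by rw [← e]; group⟩
  · exact key u t hu ht h

theorem nil_eq_bot (h2 : core {2} (⊤ : Subgroup G) = ⊥) (hO : 𝐎((⊤ : Subgroup G)) = ⊥)
    {N : Subgroup G} (hN : N ⊴ ⊤) (h : Group.IsNilpotent N) : N = ⊥ := by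
  rw [← (nilpotent_pcoreC {2} h).sup, eq_bot_iff]
  exact sup_le (h2 ▸ pcore_normal_le _ hN) (hO ▸ pcore_normal_le _ hN)

section quot

variable {G' : Type*} [Group G'] [Finite G'] {f : G →* G'} {T : Set G} (hT : Fam T)
  (hk : ∀ t ∈ T, f t = 1 → t = 1)
include hT hk

theorem inv_image {t : G} (ht : Inv T t) : Inv (f '' T) (f t) :=
  ⟨⟨t, ht.1, rfl⟩, Tr.orderOf_eq_two (by rw [← map_mul, ht.sq, map_one])
    fun h => ht.ne (hk t ht.1 h)⟩

theorem inv_lift {t' : G'} (ht : Inv (f '' T) t') : ∃ t, Inv T t ∧ f t = t' := by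
  obtain ⟨⟨t, h, rfl⟩, h2⟩ := ht
  refine ⟨t, ⟨h, Tr.orderOf_eq_two (hk _ (hT.mul_comm h h rfl) ?_) ?_⟩, rfl⟩
  · rw [map_mul, Tr.mul_self_of_orderOf_two h2]
  · rintro rfl
    simp at h2

theorem dis_image (hs : ∀ n ∈ f.ker, ∀ t, Inv T t → Conn T t (n * t * n⁻¹)) (hd : Dis T) :
    Dis (f '' T) := by
  have base : ∀ P' : Subgroup G', IsPGroup 2 P' → ∀ t u, Inv T t → Inv T u → f t ∈ P' → f u ∈ P' →
      Conn T t u := fun P' hP' t u ht hu h1 h2 => by
    obtain ⟨P, hP, n, hn, m, hm, h3, h4⟩ := exists_lift2 f hT hT hP' ht.1 hu.1 h1 h2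
    exact ((hs n hn t ht).trans (conn2' hT hP (hT.inv_conj ht n) (hT.inv_conj hu m) h3 h4)).trans
      (hs m hm u hu).symm
  obtain ⟨a, b, ha, hb, hab⟩ := hd
  refine ⟨_, _, inv_image hT hk ha, inv_image hT hk hb, fun h => hab ?_⟩
  have : ∀ u', Conn (f '' T) (f a) u' → ∀ u, Inv T u → f u = u' → Conn T a u := by
    intro u' h
    induction h with
    | refl =>
      exact fun u hu e => base _ (inv_image hT hk ha).two a u ha hu (mem_zpowers _)
        (e ▸ mem_zpowers _)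
    | tail _ h ih =>
      rintro v hv rfl
      obtain ⟨u, hu, rfl⟩ := inv_lift hT hk h.1
      exact (ih u hu rfl).trans (base _ (pgroup_pair h.1.two h.2.1.two h.2.2) u v hu hv
        (mem_sup_left (mem_zpowers _)) (mem_sup_right (mem_zpowers _)))
  exact this _ h b hb rfl

end quot

end

variable {G : Type u} [Group G] [Finite G] {T : Set G}

theorem pd_simple (hB : BScStmt.{u}) [IsSimpleGroup G] (hT : Fam T)
    (hside : (∀ x : G, orderOf x = 2 → x ∈ T) ∨ S1174Stmt.{u}) (hd : Dis T) {t u : G}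
    (ht : Inv T t) (h : Conn T t u) : t * u = u * t := by
  obtain ⟨S, hS⟩ := ht.two.exists_le_sylow
  have htS := hS (mem_zpowers t)
  have hne : stab hT t ≠ ⊤ := fun e => by
    have key : ∀ v, Inv T v → Conn T t v := fun v hv => by
      obtain ⟨g, rfl⟩ := one_class hT hd ht hv
      exact mem_stab.1 (e ▸ mem_top g : g ∈ stab hT t)
    obtain ⟨a, b, ha, hb, hab⟩ := hd
    exact hab ((key a ha).symm.trans (key b hb))
  have hall : ∀ x : G, orderOf x = 2 → x ∈ T := by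
    rcases hside with h | h
    · exact h
    obtain ⟨H, hH⟩ := h G S (NN T S) (trivgPn.2 ⟨t, mem_NN ht.1 htS, ht.ne⟩) (hT.sc S)
      fun e => hne (top_le_iff.1 (e ▸ iSup_le fun v => cent_le_stab hT (by
        have := (hT.mem_NN_iff S.isPGroup').1 v.2.1
        exact conn2' hT S.isPGroup' ht ⟨this.1, v.2.2⟩ htS this.2)))
    intro x hx
    obtain ⟨g, rfl⟩ := isConj_iff.1 (Tr.SE.isConj hH ht.2 hx)
    exact hT.conj t ht.1 g
  have hSH : (S : Subgroup G) ≤ stab hT t := fun s hs =>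
    conn2' hT S.isPGroup' ht (hT.inv_conj ht s) htS (mul_mem (mul_mem hs htS) (inv_mem hs))
  have hin : ∀ v ∈ stab hT t, orderOf v = 2 → Conn T t v := fun v hv h2 => by
    obtain ⟨g, hg, hgS⟩ := (Tr.SylowIn.of_sylow_le S hSH).exists_conj_mem hv (k := 1)
      (by rw [pow_one, Tr.sq_of_orderOf_two h2])
    have h1 := conn2' hT S.isPGroup' ht (hT.inv_conj ⟨hall v h2, h2⟩ g) htS hgS
    have h3 := (mem_stab.1 (inv_mem hg)).trans (h1.conj fun x hx => hT.conj x hx g⁻¹)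
    simpa [mul_assoc] using h3
  have hout : ∀ v, Conn T t v → v ∈ stab hT t := fun v hv => cent_le_stab hT hv (cent1id v)
  have hse : IsStronglyEmbedded (stab hT t) := Tr.isStronglyEmbedded_iff.2 ⟨hne,
    ⟨t, hout t (Conn.refl T t), ht.2⟩, fun v hv h2 g hg =>
      mem_stab_of hT (hin v hv h2) (hin _ hg ((Tr.orderOf_conj g v).trans h2))⟩
  exact (hB G _ hse t (hout t (Conn.refl T t)) u (hout u h) ht.2 (h.inv ht).2).eq

theorem pd_gen (hB : BScStmt.{u}) (hT : Fam T) (h2 : core {2} (⊤ : Subgroup G) = ⊥)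
    (hO : 𝐎((⊤ : Subgroup G)) = ⊥) (hgen : closure {t | Inv T t} = ⊤)
    (hside : (∀ x : G, orderOf x = 2 → x ∈ T) ∨ S1174Stmt.{u}) (hd : Dis T) {t u : G}
    (ht : Inv T t) (h : Conn T t u) : t * u = u * t := by
  have : Nontrivial G := ⟨t, 1, ht.ne⟩
  have : IsSimpleGroup G := ⟨fun L hL => by
    by_cases h1 : ∀ x ∈ T, x ∈ L → x = 1
    · left
      have h3 : ⊤ ≤ 𝐂(L) := (hgen.ge.trans (closure_mono fun x hx => hx.1)).trans
        (hT.cent_of_disj (eq_bot_iff.2 (hO ▸ pcore_normal_le _ (FT.normal_top.2 hL))) h1)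
      exact nil_eq_bot h2 hO (FT.normal_top.2 hL) (abelian_nil (abelianE.2 (le_top.trans h3)))
    · right
      push Not at h1
      obtain ⟨x, hx, hxL, hx1⟩ := h1
      obtain ⟨v, hv, hvx, hv2⟩ := hT.exists_invol hx hx1
      rw [eq_top_iff, ← hgen, closure_le]
      intro w hw
      obtain ⟨g, rfl⟩ := one_class hT hd ⟨hv, hv2⟩ hw
      exact hL.conj_mem v (cycle_subG.2 hxL hvx) g⟩
  exact pd_simple hB hT hside hd ht h

theorem pd_core (hB : BScStmt.{u}) (hT : Fam T) (h2 : core {2} (⊤ : Subgroup G) = ⊥)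
    (hO : 𝐎((⊤ : Subgroup G)) = ⊥)
    (hside : (∀ x : G, orderOf x = 2 → x ∈ T) ∨ S1174Stmt.{u}) (hd : Dis T) {t u : G}
    (ht : Inv T t) (h : Conn T t u) : t * u = u * t := by
  obtain ⟨J, hJ⟩ : ∃ J : Subgroup G, J = closure {t | Inv T t} := ⟨_, rfl⟩
  have hIJ : ∀ x, Inv T x → x ∈ J := fun x hx => hJ ▸ subset_closure hx
  have hn : J ⊴ ⊤ := ⟨le_top, hJ ▸ norms_gen fun a _ x hx => hT.inv_conj hx a⟩
  have hc : ∀ π : Set ℕ, core π (⊤ : Subgroup G) = ⊥ → core π (⊤ : Subgroup J) = ⊥ := fun π e => by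
    have := pcore_normal_le π hn
    rwa [e, pcore_eq_map_top, le_bot_iff, map_eq_bot_iff_of_injective _ J.subtype_injective]
      at this
  have hTJ : ∀ {a b}, Conn T a b → Conn (T ∩ J) a b := fun h =>
    h.mono fun x hx => Set.mem_inter hx.1 (hIJ x hx)
  obtain ⟨hu, h'⟩ := (hTJ h).subtype (hIJ t ht)
  refine congrArg Subtype.val (pd_gen hB (hT.comap J.subtype J.subtype_injective) (hc _ h2)
    (hc _ hO) ?_ (hside.imp_left fun h x hx => h x ((orderOf_coe x).trans hx)) (Dis.subtype ?_)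
    ⟨ht.1, by rw [← orderOf_coe]; exact ht.2⟩ h')
  · apply map_injective J.subtype_injective
    rw [MonoidHom.map_closure, ← MonoidHom.range_eq_map, range_subtype]
    refine le_antisymm ((closure_le _).2 ?_) (hJ.le.trans (closure_mono fun x hx =>
      ⟨⟨x, hIJ x hx⟩, ⟨hx.1, by rw [← orderOf_coe]; exact hx.2⟩, rfl⟩))
    rintro _ ⟨x, -, rfl⟩
    exact x.2
  · obtain ⟨a, b, ha, hb, hab⟩ := hd
    exact ⟨a, b, ha.mono ⟨ha.1, hIJ a ha⟩, hb.mono ⟨hb.1, hIJ b hb⟩, fun h => hab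
      (h.mono fun x hx => hx.1.1)⟩

theorem pd_O (hB : BScStmt.{u}) (hT : Fam T) (hO : 𝐎((⊤ : Subgroup G)) = ⊥)
    (hgen : closure T = ⊤)
    (hside : (∀ x : G, IsPGroup 2 (zpowers x) → ∃ t ∈ T, t⁻¹ * x ∈ center G) ∨ S1174Stmt.{u})
    (hd : Dis T) {t u : G} (ht : Inv T t) (h : Conn T t u) : t * u = u * t := by
  have hQ : IsPGroup 2 (pCore 2 G) := Fit.isPGroup_pCore 2 G
  have hP : ∀ x ∈ T, IsPGroup 2 ↥(pCore 2 G ⊔ zpowers x) := fun x hx =>
    isPGroup_sup hQ (hT.two x hx) (norms_of_normal _)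
  have hk : ∀ x ∈ T, x ∈ pCore 2 G → x = 1 := fun x hx hxQ => by
    by_contra h1
    obtain ⟨v, hv, hvx, hv2⟩ := hT.exists_invol hx h1
    have key : ∀ w, Inv T w → Conn T v w := fun w hw => conn2' hT (hP w hw.1) ⟨hv, hv2⟩ hw
      (mem_sup_left (cycle_subG.2 hxQ hvx)) (mem_sup_right (mem_zpowers w))
    obtain ⟨a, b, ha, hb, hab⟩ := hd
    exact hab ((key a ha).symm.trans (key b hb))
  have hc : ∀ n ∈ pCore 2 G, ∀ x ∈ T, n * x * n⁻¹ = x := fun n hn x hx => by
    have h1 : x ∈ pCore 2 G ⊔ zpowers x := mem_sup_right (mem_zpowers x)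
    refine mul_inv_eq_one.1 (hk _ (hT.comm_mem (hP x hx) hx h1
      (mul_mem (mul_mem (mem_sup_left hn) h1) (inv_mem (mem_sup_left hn)))) ?_)
    have := mul_mem hn (Normal.conj_mem inferInstance _ (inv_mem hn) x)
    simpa only [mul_assoc] using this
  have hz : pCore 2 G ≤ center G := fun n hn => by
    have : closure T ≤ 𝐂[n] := (closure_le _).2 fun x hx => cent1_conj'.2 (hc n hn x hx)
    exact mem_center_iff.2 fun g => mem_cent1.1 (this (hgen ▸ mem_top g))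
  have hf := QuotientGroup.mk'_surjective (pCore 2 G)
  have hk' : ∀ x ∈ T, QuotientGroup.mk' (pCore 2 G) x = 1 → x = 1 := fun x hx e =>
    hk x hx ((QuotientGroup.eq_one_iff x).1 e)
  have h1 := pd_core hB (hT.image hf) ((pcore_top_pCore 2).trans (Fit.pCore_quotient_pCore 2 G))
    (core_top_eq.trans (Tr.pPrimeCore_quotient_central (core_top_eq.symm.trans hO) hz hQ))
    (hside.imp_left fun hs x' hx' => by
      obtain ⟨x, rfl⟩ := hf x'
      have h2 : IsPGroup 2 (zpowers x) := by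
        refine pgroup_sub (cycle_subG.2 ?_) ((pgroup_invol (Tr.mul_self_of_orderOf_two hx')
          ).comap_of_ker_isPGroup (QuotientGroup.mk' (pCore 2 G))
            (by rw [QuotientGroup.ker_mk']; exact hQ))
        exact mem_zpowers _
      obtain ⟨s, hs, hsc⟩ := hs x h2
      have h3 : s * x = x * s := by
        have := mem_center_iff.1 hsc s
        rw [mul_inv_cancel_left, mul_assoc, eq_inv_mul_iff_mul_eq] at this
        exact this
      have h4 : s⁻¹ * x ∈ pCore 2 G := by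
        have : (zpowers (s⁻¹ * x)).Normal := ⟨fun y hy g => by
          rwa [mem_center_iff.1 (cycle_subG.2 hsc hy) g, mul_inv_cancel_right]⟩
        exact Fit.le_pCore this (pgroup_mem (pgroup_pair (hT.two s hs) h2 h3) (mul_mem
          (inv_mem (mem_sup_left (mem_zpowers s))) (mem_sup_right (mem_zpowers x))))
          (mem_zpowers _)
      exact ⟨s, hs, QuotientGroup.eq.2 h4⟩)
    (dis_image hT hk' (fun n hn v hv => by
      rw [hc n (by simpa using hn) v hv.1]; exact Conn.refl T v) hd)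
    (inv_image hT hk' ht) (h.map _ fun x hx => inv_image hT hk' hx)
  have h2 : t * u * t⁻¹ * u⁻¹ ∈ pCore 2 G := by
    rw [← QuotientGroup.eq_one_iff]
    change QuotientGroup.mk' (pCore 2 G) _ = 1
    simp only [map_mul, map_inv]
    rw [h1]
    group
  have hu := h.inv ht
  have h3 : u ∈ pCore 2 G ⊔ zpowers u := mem_sup_right (mem_zpowers u)
  have h4 := hk _ (hT.comm_mem (hP u hu.1) hu.1 h3
    (by simpa using mul_mem (mem_sup_left h2) h3)) h2
  rwa [mul_inv_eq_one, mul_inv_eq_iff_eq_mul] at h4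

theorem pd_abs (hB : BScStmt.{u}) (hT : Fam T) (hgen : closure T = ⊤)
    (h4 : ∀ t, Inv T t → ∃ t', Inv T t' ∧ t ≠ t' ∧ t * t' = t' * t)
    (hside : (∀ x : G, IsPGroup 2 (zpowers x) →
      ∃ t ∈ T, ∀ g : G, t⁻¹ * x * g * (t⁻¹ * x)⁻¹ * g⁻¹ ∈ oddCore G) ∨ S1174Stmt.{u})
    (hd : Dis T) {t u : G} (ht : Inv T t) (h : Conn T t u) : t * u * t⁻¹ * u⁻¹ ∈ oddCore G := by
  have hodd : Odd #|oddCore G| := core_top_eq (G := G) ▸ odd_core (⊤ : Subgroup G)
  have hf := QuotientGroup.mk'_surjective (oddCore G)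
  have hk' : ∀ x ∈ T, QuotientGroup.mk' (oddCore G) x = 1 → x = 1 := fun x hx e =>
    eq_one_of_odd hodd (hT.two x hx) ((QuotientGroup.eq_one_iff x).1 e) (mem_zpowers x)
  have h1 := pd_O hB (hT.image hf) (core_top_eq.trans (Fit.pPrimeCore_quotient_pPrimeCore 2 G))
    (by rw [← MonoidHom.map_closure, hgen, map_top_of_surjective _ hf])
    (hside.imp_left fun hs x' hx' => by
      obtain ⟨k, hk⟩ := Tr.isPGroup_iff_forall_mem.1 hx' x' (mem_zpowers _)
      obtain ⟨x, rfl⟩ := hf x'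
      obtain ⟨y, hy, w, hw, ⟨j, hj⟩, hw2, e⟩ := Tr.exists_p_part (p := 2) x
      have h2 : QuotientGroup.mk' (oddCore G) w = 1 := by
        obtain ⟨i, rfl⟩ := hw
        refine Tr.eq_one_of_pow_pow_of_coprime (p := 2) (k := k) ?_
          (hw2.coprime_dvd_left (orderOf_map_dvd _ _))
        rw [map_zpow, ← zpow_natCast, ← zpow_mul, mul_comm, zpow_mul, zpow_natCast, hk, one_zpow]
      obtain ⟨s, hs, hsc⟩ := hs y (Tr.isPGroup_zpowers hj)
      refine ⟨_, ⟨s, hs, rfl⟩, mem_center_iff.2 fun g => ?_⟩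
      obtain ⟨g, rfl⟩ := hf g
      have h3 : QuotientGroup.mk' (oddCore G) _ = 1 := (QuotientGroup.eq_one_iff _).2 (hsc g)
      rw [map_mul, map_mul, map_mul, map_inv, map_inv, mul_inv_eq_one,
        mul_inv_eq_iff_eq_mul] at h3
      rw [e, map_mul, h2, mul_one, ← map_inv, ← map_mul, h3])
    (dis_image hT hk' (fun n hn v hv => by
      obtain ⟨v', hv', hne, hc⟩ := h4 v hv
      have hE := TwoGrp.isKleinFour_four hv.sq hv'.sq hc hv.ne hv'.ne hne
      refine gen4 (Y := stab hT v) hE hodd (norms_of_normal _) (fun e he he1 =>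
        inf_le_right.trans (cent_le_stab hT (conn_of hv ⟨?_, four_order hE he he1⟩ ?_)))
        (by simpa using hn)
      · rcases TwoGrp.mem_four.1 he with rfl | rfl | rfl | rfl
        exacts [hT.one, hv.1, hv'.1, hT.mul_comm hv.1 hv'.1 hc]
      · exact TwoGrp.kleinFour_comm hE (TwoGrp.mem_four.2 (by simp)) he) hd)
    (inv_image hT hk' ht) (h.map _ fun x hx => inv_image hT hk' hx)
  rw [← QuotientGroup.eq_one_iff]
  change QuotientGroup.mk' (oddCore G) _ = 1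
  simp only [map_mul, map_inv]
  rw [h1]
  group

theorem inter_NN (T : Set G) (X : Subgroup G) : T ∩ NN T X = T ∩ X :=
  Set.ext fun _ => ⟨fun h => ⟨h.1, NN_le T X h.2⟩, fun h => ⟨h.1, mem_NN h.1 h.2⟩⟩

/-- Proposition D -/
theorem propD (hB : BScStmt.{u}) (hT : Fam T) {X : Subgroup G}
    (h4 : ∀ t, Inv T t → t ∈ X → ∃ t', Inv T t' ∧ t' ∈ X ∧ t ≠ t' ∧ t * t' = t' * t)
    (hside : (∀ x ∈ NN T X, IsPGroup 2 (zpowers x) →
      ∃ t ∈ T, t ∈ X ∧ ∀ g ∈ NN T X, t⁻¹ * x * g * (t⁻¹ * x)⁻¹ * g⁻¹ ∈ 𝐎(NN T X)) ∨ S1174Stmt.{u})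
    (hd : Dis (T ∩ X)) {t u : G} (ht : Inv (T ∩ X) t) (h : Conn (T ∩ X) t u) :
    t * u * t⁻¹ * u⁻¹ ∈ 𝐎(NN T X) := by
  rw [← inter_NN] at hd ht h
  obtain ⟨hu, h'⟩ := h.subtype ht.1.2
  have hm : ∀ y : NN T X, y ∈ oddCore (NN T X) ↔ (y : G) ∈ 𝐎(NN T X) := fun y => by
    rw [p'core_eq_pPrimeCore]
    exact (mem_map_iff_mem (NN T X).subtype_injective).symm
  refine (hm _).1 (pd_abs hB (hT.comap _ (NN T X).subtype_injective) ?_ (fun v hv => ?_)
    (hside.imp_left fun hs x hx => ?_) hd.subtype ⟨ht.1.1, by rw [← orderOf_coe]; exact ht.2⟩ h')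
  · apply map_injective (NN T X).subtype_injective
    rw [← NN_eq_map, ← MonoidHom.range_eq_map, range_subtype, NN, inter_NN]
    rfl
  · obtain ⟨v', h1, h2, h3, h5⟩ := h4 v ⟨hv.1, (orderOf_coe v).trans hv.2⟩ (NN_le T X v.2)
    exact ⟨⟨v', mem_NN h1.1 h2⟩, ⟨h1.1, by rw [← orderOf_coe]; exact h1.2⟩,
      fun e => h3 (congrArg Subtype.val e), Subtype.ext h5⟩
  · obtain ⟨s, h1, h2, h3⟩ := hs x x.2 (by
      have := hx.map (NN T X).subtype
      rwa [MonoidHom.map_zpowers] at this)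
    exact ⟨⟨s, mem_NN h1 h2⟩, h1, fun g => (hm _).2 (h3 g g.2)⟩

end Cfsg.Agent.SF.GP
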