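import Cfsg.Agent.Lib.SF.PropD
import Cfsg.Agent.Lib.SF.LemG
import Cfsg.Agent.Lib.ZStar.Main

/-! Theorem A of `docs/SF_PLAN.md`: reduction to a simple group. -/

set_option autoImplicit false
set_option linter.unusedSectionVars false
set_option linter.unusedVariables false

namespace Cfsg.Agent.SF.GP

open Subgroup Cfsg.Agent.FT

universe u

/-- a simple minimal counterexample -/
structure Cfg {G : Type u} [Group G] (T₁ T₂ : Set G) : Prop where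
  pair : Pair T₁ T₂
  simple : IsSimpleGroup G
  h2 : core {2} (⊤ : Subgroup G) = ⊥
  hO : 𝐎((⊤ : Subgroup G)) = ⊥
  ne₁ : ∃ t ∈ T₁, t ≠ 1
  ne₂ : ∃ t ∈ T₂, t ≠ 1
  side : Prd T₁ T₂ ⊤ ∨ S1174Stmt.{u}
  ind : ∀ X : Subgroup G, X ≠ ⊤ → (Prd T₁ T₂ X ∨ S1174Stmt.{u}) → ⁅NN T₁ X, NN T₂ X⁆ ≤ 𝐎(X)

theorem Cfg.symm {G : Type u} [Group G] {T₁ T₂ : Set G} (h : Cfg T₁ T₂) : Cfg T₂ T₁ where
  pair := h.pair.symm
  simple := h.simple
  h2 := h.h2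
  hO := h.hO
  ne₁ := h.ne₂
  ne₂ := h.ne₁
  side := h.side.imp_left fun e => e.symm h.pair
  ind X hX hs := by
    rw [commGC]
    exact h.ind X hX (hs.imp_left fun e => e.symm h.pair.symm)

/-- there is no simple minimal counterexample -/
def SimpleCase : Prop :=
  ∀ (G : Type u) [Group G] [Finite G] (T₁ T₂ : Set G), Cfg T₁ T₂ → False

section
variable {G : Type u} [Group G] [Finite G] {T₁ T₂ : Set G}

theorem centO (hO : 𝐎((⊤ : Subgroup G)) = ⊥) {N M : Subgroup G} [N.Normal] (hN : IsPGroup 2 N)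
    (h1 : M ≤ 𝐎((⊤ : Subgroup (G ⧸ N))).comap (QuotientGroup.mk' N)) (h2 : M ≤ 𝐂(N)) :
    M ≤ N := by
  obtain ⟨C, hC⟩ : ∃ C, C = 𝐎((⊤ : Subgroup (G ⧸ N))).comap (QuotientGroup.mk' N) ⊓ 𝐂(N) :=
    ⟨_, rfl⟩
  have hCn : C ⊴ ⊤ := by
    have := (pcore_normal {2}ᶜ (⊤ : Subgroup (G ⧸ N))).comap (QuotientGroup.mk' N)
    rw [comap_top] at this
    exact hC ▸ this.subcent (norms_of_normal ⊤)
  have h3 : Odd ((N ⊓ C).relIndex C) := by
    rw [indexgI']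
    have := relIndex_ker C (QuotientGroup.mk' N)
    rw [QuotientGroup.ker_mk'] at this
    rw [this]
    exact odd_of_le (map_le_iff_le_comap.2 (hC ▸ inf_le_left)) (odd_core _)
  have hH : IsHallIn {2} (N ⊓ C) C := pHall_of inf_le_right
    (piG_of_isPGroup (pgroup_sub inf_le_left hN)) (pnat_of_odd_two h3)
  obtain ⟨H, hs⟩ := SchurZassenhaus_split' hH (normsI (norms_of_normal C) (normG C))
  have h4 := (hs.dprod (centsS inf_le_left (hs.right_le.trans (hC ▸ inf_le_right)))).nrm_right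
  have h5 : H = ⊥ := eq_bot_iff.2 (hO ▸ (le_core (hs.index_left ▸ h3) h4).trans
    (pcore_normal_le _ hCn))
  have h6 := hs.right_eq_bot_iff.1 h5
  exact (le_inf h1 h2).trans (hC.ge.trans (h6.ge.trans inf_le_left))

theorem cent_of_normal2 {T : Set G} (hT : Fam T) {N : Subgroup G} [N.Normal] (hN : IsPGroup 2 N)
    (hd : ∀ t ∈ T, t ∈ N → t = 1) {x t : G} (ht : t ∈ T) (h : x * t * x⁻¹ * t⁻¹ ∈ N) :
    x * t = t * x := by
  have h1 : t ∈ N ⊔ zpowers t := mem_sup_right (mem_zpowers t)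
  have h2 := hd _ (hT.comm_mem (isPGroup_sup hN (hT.two t ht) (norms_of_normal _)) ht h1
    (by simpa using mul_mem (mem_sup_left h) h1)) h
  rwa [mul_inv_eq_one, mul_inv_eq_iff_eq_mul] at h2

theorem fin2 (hp : Pair T₁ T₂) {N : Subgroup G} [N.Normal] (hN : IsPGroup 2 N)
    (hd : ∀ t ∈ T₂, t ∈ N → t = 1) (h : ⁅closure T₁, closure T₂⁆ ≤ N) :
    ⁅closure T₁, closure T₂⁆ = ⊥ := by
  rw [commG1P, centsC, closure_le]
  intro t ht
  exact mem_cent.2 fun x hx => cent_of_normal2 hp.f₂ hN hd ht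
    (h (mem_commg hx (subset_closure ht)))

theorem caseA (hp : Pair T₁ T₂) (hO : 𝐎((⊤ : Subgroup G)) = ⊥) {N : Subgroup G} [N.Normal]
    (hN : IsPGroup 2 N) (hT : ∀ n ∈ N, n ∈ T₁)
    (ih : Pair (QuotientGroup.mk' N '' T₁) (QuotientGroup.mk' N '' T₂) → ⁅closure T₁, closure T₂⁆ ≤
      𝐎((⊤ : Subgroup (G ⧸ N))).comap (QuotientGroup.mk' N)) :
    ⁅closure T₁, closure T₂⁆ = ⊥ := by
  have := hp.f₂.normal
  refine fin2 hp hN (fun t ht htN => hp.disj t (hT t htN) ht) (centO hO hN (ih (hp.image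
    (QuotientGroup.mk'_surjective N) fun P hP x hx y hy h1 h2 e => ?_))
    ((commg_subr.2 (norms_of_normal _)).trans ((closure_le _).2 fun t ht => mem_cent.2
      fun n hn => hp.comm _ (isPGroup_sup hN (hp.f₂.two t ht) (norms_of_normal _)) n (hT n hn) t ht
        (mem_sup_left hn) (mem_sup_right (mem_zpowers t)))))
  have h3 := hp.f₁.mul P hP x hx _ (hT _ (QuotientGroup.eq.1 e)) h1 (mul_mem (inv_mem h1) h2)
  rw [mul_inv_cancel_left] at h3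
  rw [e, hp.disj y h3 hy, map_one]

theorem caseB (hp : Pair T₁ T₂) (hO : 𝐎((⊤ : Subgroup G)) = ⊥)
    (h₁ : ∀ t ∈ T₁, t ∈ pCore 2 G → t = 1) (h₂ : ∀ t ∈ T₂, t ∈ pCore 2 G → t = 1)
    (ih : Pair (QuotientGroup.mk' (pCore 2 G) '' T₁) (QuotientGroup.mk' (pCore 2 G) '' T₂) →
      ⁅closure T₁, closure T₂⁆ ≤
        𝐎((⊤ : Subgroup (G ⧸ pCore 2 G))).comap (QuotientGroup.mk' (pCore 2 G))) :
    ⁅closure T₁, closure T₂⁆ = ⊥ := by
  have hQ : IsPGroup 2 (pCore 2 G) := Fit.isPGroup_pCore 2 G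
  have hc : ∀ T : Set G, Fam T → (∀ t ∈ T, t ∈ pCore 2 G → t = 1) → closure T ≤ 𝐂(pCore 2 G) :=
    fun T hT hd => (closure_le _).2 fun t ht => mem_cent.2 fun n hn =>
      cent_of_normal2 hT hQ hd ht (by
        have := mul_mem hn (Normal.conj_mem inferInstance _ (inv_mem hn) t)
        simpa only [mul_assoc] using this)
  obtain ⟨H, hH⟩ : ∃ H, H = closure T₁ ⊔ closure T₂ := ⟨_, rfl⟩
  have hHc : H ≤ 𝐂(pCore 2 G) := hH ▸ sup_le (hc _ hp.f₁ h₁) (hc _ hp.f₂ h₂)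
  have hHn : H ⊴ ⊤ := hH ▸ (FT.normal_top.2 hp.f₁.normal).sup (FT.normal_top.2 hp.f₂.normal)
  have m₁ : ∀ t ∈ T₁, t ∈ H := fun t ht => hH ▸ mem_sup_left (subset_closure ht)
  have m₂ : ∀ t ∈ T₂, t ∈ H := fun t ht => hH ▸ mem_sup_right (subset_closure ht)
  refine fin2 hp hQ h₂ (centO hO hQ (ih (hp.image (QuotientGroup.mk'_surjective _)
    fun P hP x hx y hy h1 h2 e => ?_)) ((commg_sub _ _).trans (hH ▸ hHc)))
  by_contra hne
  obtain ⟨t, ht, ⟨k, rfl⟩, ht2⟩ := hp.f₁.exists_invol hx (fun h => hne (by rw [h, map_one]))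
  obtain ⟨s, hs, hn⟩ : ∃ s ∈ T₂, s⁻¹ * x ^ k ∈ pCore 2 G :=
    ⟨y ^ k, hp.f₂.of_mem_zpowers hy ⟨k, rfl⟩, QuotientGroup.eq.1 (by
      change QuotientGroup.mk' _ _ = QuotientGroup.mk' _ _
      rw [map_zpow, map_zpow, e])⟩
  simp only at ht ht2
  generalize x ^ k = t at ht ht2 hn
  have key : ∀ h ∈ H, t * (h * t * h⁻¹) = h * t * h⁻¹ * t → h * t * h⁻¹ = t := fun h hh h3 => by
    have h4 := hp.f₁.conj t ht h
    have hP' := isPGroup_sup hQ (pgroup_pair (hp.f₁.two t ht) (hp.f₁.two _ h4) h3)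
      (norms_of_normal _)
    have h5 : t ∈ pCore 2 G ⊔ (zpowers t ⊔ zpowers (h * t * h⁻¹)) :=
      mem_sup_right (mem_sup_left (mem_zpowers _))
    have h6 : h * t * h⁻¹ ∈ pCore 2 G ⊔ (zpowers t ⊔ zpowers (h * t * h⁻¹)) :=
      mem_sup_right (mem_sup_right (mem_zpowers _))
    have h7 : h * (s⁻¹ * t) * h⁻¹ = s⁻¹ * t := by
      rw [← mem_cent.1 (hHc hh) _ hn, mul_inv_cancel_right]
    have h8 : h * s * h⁻¹ = h * t * h⁻¹ * (s⁻¹ * t)⁻¹ :=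
      calc _ = h * t * h⁻¹ * (h * (s⁻¹ * t) * h⁻¹)⁻¹ := by group
        _ = _ := by rw [h7]
    have h9 : h * t * h⁻¹ * t⁻¹ = h * s * h⁻¹ * s⁻¹ := by
      rw [h8]
      group
    have h10 := hp.f₂.comm_mem hP' hs (x := h)
      (by simpa using mul_mem h5 (mem_sup_left (inv_mem hn)))
      (h8 ▸ mul_mem h6 (mem_sup_left (inv_mem hn)))
    exact mul_inv_eq_one.1 (hp.disj _ (hp.f₁.comm_mem hP' ht h5 h6) (h9 ▸ h10))
  have hiso : IsIsolatedInvolution (⟨t, m₁ t ht⟩ : H) := ⟨by rw [← orderOf_coe]; exact ht2,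
    fun h hh => Subtype.ext (key h h.2 (congrArg Subtype.val hh.eq))⟩
  have hz := ZStar.zstar_center (p'core_eq_bot_iff_pPrimeCore.1
    (eq_bot_iff.2 (hO ▸ pcore_normal_le _ hHn))) hiso
  have hz' : t ∈ 𝐙(H) := ⟨m₁ t ht, mem_cent.2 fun a ha =>
    congrArg Subtype.val (mem_center_iff.1 hz ⟨a, ha⟩)⟩
  have := pcore_normal_le {2} hHn.center (pcore_max' (hp.f₁.two t ht)
    (sub_abelian_normal (center_abelian H) (cycle_subG.2 hz')) (mem_zpowers t))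
  rw [pcore_top_pCore] at this
  exact Tr.ne_one_of_orderOf_two ht2 (h₁ t ht this)

theorem stepN (hp : Pair T₁ T₂) (h2 : core {2} (⊤ : Subgroup G) = ⊥)
    (hO : 𝐎((⊤ : Subgroup G)) = ⊥) (hs : Prd T₁ T₂ ⊤ ∨ S1174Stmt.{u})
    (ih : (Prd T₁ T₂ (closure T₁) ∨ S1174Stmt.{u}) →
      ⁅NN T₁ (closure T₁), NN T₂ (closure T₁)⁆ ≤ 𝐎(closure T₁)) :
    ⁅closure T₁, closure T₂⁆ = ⊥ := by
  have := hp.f₁.normal
  have hn : closure T₁ ⊴ ⊤ := FT.normal_top.2 this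
  have hO' : 𝐎(closure T₁) = ⊥ := eq_bot_iff.2 (hO ▸ pcore_normal_le _ hn)
  have h1 := ih (hs.imp_left fun hs => by
    obtain ⟨S, hS⟩ := Sylow_exists 2 (⊤ : Subgroup G)
    refine prd_of hp (Sylow_setI_normal' hn hS) fun x hx => ?_
    obtain ⟨a, ha, b, hb, h3, h4, rfl⟩ := hs S hS x hx.1
    exact ⟨a, ha, b, hb, ⟨h3, subset_closure ha⟩,
      ⟨h4, ((closure T₁).mul_mem_cancel_left (subset_closure ha)).1 hx.2⟩, rfl⟩)
  rw [hO', le_bot_iff, commG1P, centsC] at h1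
  have h3 : closure T₁ ≤ NN T₁ (closure T₁) :=
    (closure_le _).2 fun t ht => mem_NN ht (subset_closure ht)
  have h4 := nil_eq_bot h2 hO hn.center (abelian_nil (center_abelian _))
  rw [commG1P, centsC]
  refine hp.f₂.cent_of_disj hO' fun t ht htN => ?_
  rw [← mem_bot, ← h4]
  exact ⟨htN, centsS h3 h1 (mem_NN ht htN)⟩

theorem NN_min {T : Set G} (hT : Fam T) (h2 : core {2} (⊤ : Subgroup G) = ⊥)
    (hO : 𝐎((⊤ : Subgroup G)) = ⊥) (hgen : closure T = ⊤) {M : Subgroup G} (hM : MinNormal M ⊤) :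
    NN T M = M := by
  have hn : M ⊴ ⊤ := ⟨le_top, hM.nz⟩
  have := FT.normal_top.1 hn
  refine hM.min _ (NN_le T M) (fun e => hM.ne (nil_eq_bot h2 hO hn (abelian_nil (abelianE.2
    (le_top.trans (hgen.ge.trans (hT.cent_of_disj (eq_bot_iff.2 (hO ▸ pcore_normal_le _ hn))
      fun t ht htM => ?_))))))) (hM.nz.trans (hT.norm_NN M))
  rw [← mem_bot, ← e]
  exact mem_NN ht htM

theorem exists_prd (hp : Pair T₁ T₂) (hs : Prd T₁ T₂ ⊤) (h₁ : closure T₁ = ⊤)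
    (h₂ : closure T₂ = ⊤) {M : Subgroup G} (hn : M ⊴ ⊤) (hM : M ≠ ⊤) :
    ∃ H, M ≤ H ∧ H ≠ ⊤ ∧ Prd T₁ T₂ H := by
  obtain ⟨S, hS⟩ := Sylow_exists 2 (⊤ : Subgroup G)
  obtain ⟨D, hD⟩ : ∃ D, D = NN T₁ S ⊓ (M ⊔ NN T₂ S) := ⟨_, rfl⟩
  have hDS : D ≤ S := hD ▸ inf_le_left.trans (NN_le _ _)
  have hDM : D ≤ 𝐍(M) := le_top.trans hn.nz
  refine ⟨M ⊔ D, le_sup_left, fun e => hM ?_, prd_of hp (P := S ⊓ (M ⊔ D)) ⟨inf_le_right,
    pgroup_sub inf_le_left hS.pgroup, ?_⟩ fun x hx => ?_⟩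
  · have h1 : (⊤ : Subgroup G) ≤ ⁅⊤, ⊤⁆ := h₁.ge.trans ((closure_le _).2 fun t ht =>
      transfer_prd hp hs h₂ (fun x _ g => mem_commg (mem_top g) (mem_top x)) ht)
    have h2 : D ≤ M := le_of_le_sup_der (pgroup_sol (pgroup_sub hDS hS.pgroup)) hDM (by
      refine le_top.trans (h1.trans ?_)
      rw [← e, der1_sup hDM]
      exact sup_le (le_sup_of_le_left (sup_le (der_sub M) (commg_subl.2 hDM))) le_sup_right)
    rwa [sup_eq_left.2 h2] at e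
  · rw [← ((norm_joinEr hDM).mono_right (le_inf hDS le_sup_right) inf_le_right).relIndex_eq,
      ← indexgI', inf_assoc, inf_eq_right.2 (le_sup_left : M ≤ M ⊔ D)]
    exact (Sylow_setI_normal' hn hS).not_dvd
  · obtain ⟨a, ha, b, hb, h3, h4, rfl⟩ := hs S hS x hx.1
    obtain ⟨m, hm, d, hd, e⟩ := (mem_join_norm hDM).1 hx.2
    have hd1 : d ∈ NN T₁ S := (hD.le hd).1
    have h5 := hp.comm S hS.pgroup d ((hp.f₁.mem_NN_iff hS.pgroup).1 hd1).1 b hb (hDS hd) h4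
    have h6 : a * d⁻¹ ∈ D := hD ▸ mem_inf.2 ⟨mul_mem (mem_NN ha h3) (inv_mem hd1), by
      have : a * d⁻¹ = m * b⁻¹ := by
        rw [eq_mul_inv_iff_mul_eq.2 e, mul_assoc, mul_assoc, ← mul_inv_rev, ← h5]
        group
      exact this ▸ mul_mem_sup hm (inv_mem (mem_NN hb h4))⟩
    have h7 : a ∈ M ⊔ D := mem_sup_right (by simpa using mul_mem h6 hd)
    exact ⟨a, ha, b, hb, ⟨h3, h7⟩, ⟨h4, ((M ⊔ D).mul_mem_cancel_left h7).1 hx.2⟩, rfl⟩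

end

theorem reduce (hS : SimpleCase.{u}) (n : ℕ) : ∀ (G : Type u) [Group G] [Finite G]
    (T₁ T₂ : Set G), Nat.card G = n → Pair T₁ T₂ → (Prd T₁ T₂ ⊤ ∨ S1174Stmt.{u}) →
      ⁅closure T₁, closure T₂⁆ ≤ 𝐎((⊤ : Subgroup G)) := by
  induction n using Nat.strong_induction_on with
  | _ n ih =>
  intro G _ _ T₁ T₂ hn hp hs
  have ihq : ∀ (T₁ T₂ : Set G), (Prd T₁ T₂ ⊤ ∨ S1174Stmt.{u}) → ∀ (N : Subgroup G) [N.Normal],
      N ≠ ⊥ → Pair (QuotientGroup.mk' N '' T₁) (QuotientGroup.mk' N '' T₂) →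
      ⁅closure T₁, closure T₂⁆ ≤ 𝐎((⊤ : Subgroup (G ⧸ N))).comap (QuotientGroup.mk' N) := by
    intro T₁ T₂ hs N _ hN hp'
    rw [← map_le_iff_le_comap, map_commutator, MonoidHom.map_closure, MonoidHom.map_closure]
    refine ih _ ?_ (G ⧸ N) _ _ rfl hp'
      (hs.imp_left fun h => h.image (QuotientGroup.mk'_surjective N) hp')
    rw [← hn, card_eq_card_quotient_mul_card_subgroup N]
    exact lt_mul_of_one_lt_right Nat.card_pos (cardG_gt1.2 hN)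
  have ihs : ∀ (T₁ T₂ : Set G), Pair T₁ T₂ → ∀ X : Subgroup G, X ≠ ⊤ →
      (Prd T₁ T₂ X ∨ S1174Stmt.{u}) → ⁅NN T₁ X, NN T₂ X⁆ ≤ 𝐎(X) := by
    intro T₁ T₂ hp X hX hs
    rw [NN_eq_map, NN_eq_map, ← map_commutator, pcore_eq_map_top]
    refine map_mono (ih _ ?_ X _ _ rfl (hp.comap _ X.subtype_injective)
      (hs.imp_left fun h => h.subtype))
    rw [← hn, ← card_top (G := G)]
    exact proper_card (lt_top_iff_ne_top.2 hX)
  have hs' : Prd T₂ T₁ ⊤ ∨ S1174Stmt.{u} := hs.imp_left fun h => h.symm hp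
  by_cases hO : 𝐎((⊤ : Subgroup G)) = ⊥
  swap
  · rw [core_top_eq] at hO ⊢
    have hodd : Odd #|oddCore G| := core_top_eq (G := G) ▸ odd_core (⊤ : Subgroup G)
    have := ihq T₁ T₂ hs (oddCore G) hO (hp.image (QuotientGroup.mk'_surjective _)
      fun P hP x hx y hy h1 h2 e => by
        have h3 := eq_one_of_odd hodd hP (QuotientGroup.eq.1 e) (mul_mem (inv_mem h1) h2)
        rw [inv_mul_eq_one] at h3
        rw [hp.disj x hx (h3 ▸ hy), map_one])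
    rwa [core_top_eq.trans (Fit.pPrimeCore_quotient_pPrimeCore 2 G), MonoidHom.comap_bot,
      QuotientGroup.ker_mk'] at this
  rw [hO, le_bot_iff]
  have hQ : IsPGroup 2 (pCore 2 G) := Fit.isPGroup_pCore 2 G
  have hA : ∀ (T₁ T₂ : Set G), Pair T₁ T₂ → (Prd T₁ T₂ ⊤ ∨ S1174Stmt.{u}) →
      ¬ (∀ t ∈ T₁, t ∈ pCore 2 G → t = 1) → ⁅closure T₁, closure T₂⁆ = ⊥ := by
    intro T₁ T₂ hp hs h
    push Not at h
    obtain ⟨t, ht, htQ, ht1⟩ := h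
    have : (NN T₁ (pCore 2 G)).Normal := FT.normal_top.1
      ⟨le_top, (norms_of_normal ⊤).trans (hp.f₁.norm_NN _)⟩
    exact caseA hp hO (pgroup_sub (NN_le _ _) hQ) (fun n hn => ((hp.f₁.mem_NN_iff hQ).1 hn).1)
      (ihq T₁ T₂ hs _ (trivgPn.2 ⟨t, mem_NN ht htQ, ht1⟩))
  by_cases h2 : pCore 2 G = ⊥
  swap
  · by_cases h₁ : ∀ t ∈ T₁, t ∈ pCore 2 G → t = 1
    swap
    · exact hA T₁ T₂ hp hs h₁
    by_cases h₂ : ∀ t ∈ T₂, t ∈ pCore 2 G → t = 1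
    swap
    · rw [commGC]
      exact hA T₂ T₁ hp.symm hs' h₂
    exact caseB hp hO h₁ h₂ (ihq T₁ T₂ hs _ h2)
  rw [← pcore_top_pCore] at h2
  by_cases h₁ : closure T₁ = ⊤
  swap
  · exact stepN hp h2 hO hs (ihs T₁ T₂ hp _ h₁)
  by_cases h₂ : closure T₂ = ⊤
  swap
  · rw [commGC]
    exact stepN hp.symm h2 hO hs' (ihs T₂ T₁ hp.symm _ h₂)
  rcases subsingleton_or_nontrivial G with hG | hG
  · exact Subsingleton.elim _ _
  have hne : ∀ T : Set G, closure T = ⊤ → ∃ t ∈ T, t ≠ 1 := fun T hT => by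
    by_contra hcon
    push Not at hcon
    exact top_ne_bot (le_bot_iff.1 (hT.ge.trans ((closure_le ⊥).2 fun t ht => hcon t ht)))
  refine (hS G T₁ T₂ ⟨hp, ⟨fun N hN => ?_⟩, h2, hO, hne _ h₁, hne _ h₂, hs, ihs T₁ T₂ hp⟩).elim
  by_contra hcon
  push Not at hcon
  obtain ⟨M, hM, hMN⟩ := minnormal_exists (L := ⊤) hcon.1 (norms_of_normal ⊤)
  have hMn : M ⊴ ⊤ := ⟨le_top, hM.nz⟩
  have hMt : M ≠ ⊤ := fun e => hcon.2 (top_le_iff.1 (e ▸ hMN))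
  obtain ⟨H, hMH, hH, hsH⟩ : ∃ H, M ≤ H ∧ H ≠ ⊤ ∧ (Prd T₁ T₂ H ∨ S1174Stmt.{u}) := by
    rcases hs with hs | hs
    · obtain ⟨H, h3, h4, h5⟩ := exists_prd hp hs h₁ h₂ hMn hMt
      exact ⟨H, h3, h4, Or.inl h5⟩
    · exact ⟨M, le_rfl, hMt, Or.inr hs⟩
  have h3 : ⁅M, M⁆ ≤ 𝐎(M) := (le_inf ((commgSS
    ((NN_min hp.f₁ h2 hO h₁ hM).ge.trans (NN_mono _ hMH))
    ((NN_min hp.f₂ h2 hO h₂ hM).ge.trans (NN_mono _ hMH))).trans (ihs T₁ T₂ hp H hH hsH))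
    (der_sub M)).trans (inf_core_le hMH)
  exact hM.ne (nil_eq_bot h2 hO hMn (abelian_nil (derG1P.1 (eq_bot_iff.2
    (hO ▸ h3.trans (pcore_normal_le _ hMn))))))

end Cfsg.Agent.SF.GP
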