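import Cfsg.Agent.Lib.SF.ThmA1

/-! Theorem A of `docs/SF_PLAN.md`: basic facts on the simple minimal counterexample. -/

set_option autoImplicit false
set_option linter.unusedSectionVars false
set_option linter.unusedVariables false

namespace Cfsg.Agent.SF.GP

open Subgroup Cfsg.Agent.FT

universe u

section
variable {G : Type*} [Group G]

/-- a four-group inside the family -/
structure Q4 (T : Set G) (E : Subgroup G) : Prop where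
  four : IsKleinFour E
  sub : ∀ e ∈ E, e ∈ T

theorem Q4.two {T : Set G} {E : Subgroup G} (h : Q4 T E) : IsPGroup 2 E :=
  TwoGrp.kleinFour_isPGroup h.four

theorem Q4.inv {T : Set G} {E : Subgroup G} (h : Q4 T E) {e : G} (he : e ∈ E) (h1 : e ≠ 1) :
    Inv T e := ⟨h.sub e he, four_order h.four he h1⟩

theorem Q4.cj {T : Set G} {E : Subgroup G} (h : Q4 T E) (hT : Fam T) (g : G) : Q4 T (cj g E) :=
  ⟨four_cj h.four g, fun e he => by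
    obtain ⟨x, hx, rfl⟩ := Tr.mem_cj'.1 he
    exact hT.conj x (h.sub x hx) g⟩

theorem q4_four {T : Set G} (hT : Fam T) {a b : G} (ha : Inv T a) (hb : Inv T b)
    (h : a * b = b * a) (hne : a ≠ b) : Q4 T (TwoGrp.four a b ha.sq hb.sq h) :=
  ⟨TwoGrp.isKleinFour_four ha.sq hb.sq h ha.ne hb.ne hne, fun e he => by
    rcases TwoGrp.mem_four.1 he with rfl | rfl | rfl | rfl
    exacts [hT.one, ha.1, hb.1, hT.mul_comm ha.1 hb.1 h]⟩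

theorem four_le {a b : G} {ha : a * a = 1} {hb : b * b = 1} {h : a * b = b * a} {X : Subgroup G}
    (h1 : a ∈ X) (h2 : b ∈ X) : TwoGrp.four a b ha hb h ≤ X := fun e he => by
  rcases TwoGrp.mem_four.1 he with rfl | rfl | rfl | rfl
  exacts [one_mem _, h1, h2, mul_mem h1 h2]

theorem left_mem_four {a b : G} {ha : a * a = 1} {hb : b * b = 1} {h : a * b = b * a} :
    a ∈ TwoGrp.four a b ha hb h := TwoGrp.mem_four.2 (by simp)

theorem right_mem_four {a b : G} {ha : a * a = 1} {hb : b * b = 1} {h : a * b = b * a} :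
    b ∈ TwoGrp.four a b ha hb h := TwoGrp.mem_four.2 (by simp)

theorem norm_D (h : G) : 𝐂[h] ≤ 𝐍(𝐎(𝐂[h])) := pcore_norm _ _

theorem D_le (h : G) : 𝐎(𝐂[h]) ≤ 𝐂[h] := pcore_sub _ _

/-- the elements of `C(h)` centralizing `T ∩ C(h)` modulo `O(C(h))` -/
def CC (T : Set G) (h : G) : Subgroup G := 𝐂[h] ⊓ cmod 𝐎(𝐂[h]) (T ∩ 𝐂[h])

theorem mem_CC {T : Set G} {h x : G} :
    x ∈ CC T h ↔ x ∈ 𝐂[h] ∧ ∀ t ∈ T, t ∈ 𝐂[h] → x * t * x⁻¹ * t⁻¹ ∈ 𝐎(𝐂[h]) :=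
  ⟨fun hx => ⟨hx.1, fun t h1 h2 => hx.2.2 t ⟨h1, h2⟩⟩,
    fun hx => ⟨hx.1, norm_D h hx.1, fun t ht => hx.2 t ht.1 ht.2⟩⟩

theorem CC_le (T : Set G) (h : G) : CC T h ≤ 𝐂[h] := inf_le_left

theorem D_le_CC (T : Set G) (h : G) : 𝐎(𝐂[h]) ≤ CC T h :=
  le_inf (D_le h) (self_le_cmod fun _ ht => norm_D h ht.2)

theorem CC_comm {T : Set G} {h : G} {X E : Subgroup G} (hX : X ≤ CC T h) (hE : ∀ e ∈ E, e ∈ T)
    (hc : E ≤ 𝐂[h]) : ⁅X, E⁆ ≤ 𝐎(𝐂[h]) :=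
  commg_le.2 fun x hx e he => (mem_CC.1 (hX hx)).2 e (hE e he) (hc he)

theorem Fam.norm_CC {T : Set G} (hT : Fam T) (h : G) : 𝐂[h] ≤ 𝐍(CC T h) :=
  norms_of_conj_mem fun g hg x hx => mem_CC.2 ⟨mul_mem (mul_mem hg hx.1) (inv_mem hg),
    fun t ht htc => by
      have := (memJ_norm (norm_D h hg)).2 ((mem_CC.1 hx).2 _ (hT.conj' ht g)
        (mul_mem (mul_mem (inv_mem hg) htc) hg))
      convert this using 1
      group⟩

variable [Finite G]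

theorem Fam.lift_T {T : Set G} (hT : Fam T) {h : G} {R : Subgroup G} (hR : IsPGroup 2 R)
    (hRC : R ≤ CC T h) {t : G} (ht : t ∈ T) (htc : t ∈ 𝐂[h]) :
    ∃ d ∈ 𝐎(𝐂[h]), d * t * d⁻¹ ∈ 𝐂[h] ⊓ 𝐂(R) := by
  obtain ⟨d, hd, h1⟩ := lift_elt (odd_core _) (hT.two t ht) hR (norm_D h htc)
    (hRC.trans ((CC_le T h).trans (norm_D h)))
    fun r hr => comm_mem_symm ((mem_CC.1 (hRC hr)).2 t ht htc)
  exact ⟨d, hd, mem_inf.2 ⟨mul_mem (mul_mem (D_le h hd) htc) (inv_mem (D_le h hd)), h1⟩⟩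

theorem Fam.cover {T : Set G} (hT : Fam T) {h : G} {R : Subgroup G} (hR : IsPGroup 2 R)
    (hRC : R ≤ CC T h) {Y : Subgroup G} (hY : Odd #|Y|) (hn : NN T (𝐂[h] ⊓ 𝐂(R)) ≤ 𝐍(Y)) :
    Y ⊓ NN T (𝐂[h] ⊓ 𝐂(R)) ≤ 𝐎(𝐂[h]) := by
  refine olem (hT.NN_nrm 𝐂[h]) ((NN_le _ _).trans inf_le_left) (NN_le_iff.2 fun t ht htc => ?_)
    (inf_le_right.trans (NN_mono T inf_le_left)) (normsI hn (normG _)) (odd_of_le inf_le_left hY)
  obtain ⟨d, hd, h1⟩ := hT.lift_T hR hRC ht htc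
  have := mul_mem (mul_mem (mem_sup_right (inv_mem hd))
    (mem_sup_left (T := 𝐎(𝐂[h])) (mem_NN (hT.conj t ht d) h1))) (mem_sup_right hd)
  simpa [mul_assoc] using this

theorem Prd.dprod {T₁ T₂ : Set G} (h : Prd T₁ T₂ ⊤) (hp : Pair T₁ T₂) {S : Subgroup G}
    (hS : IsSylowIn 2 S ⊤) : Dprod (NN T₁ S) (NN T₂ S) S := by
  have m₁ := fun {y} => hp.f₁.mem_NN_iff hS.pgroup (x := y)
  have m₂ := fun {y} => hp.f₂.mem_NN_iff hS.pgroup (x := y)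
  refine ⟨le_antisymm (sup_le (NN_le _ _) (NN_le _ _)) fun y hy => ?_, centsP.2 fun b hb a ha =>
    (hp.comm S hS.pgroup a (m₁.1 ha).1 b (m₂.1 hb).1 (m₁.1 ha).2 (m₂.1 hb).2).symm,
    eq_bot_iff.2 fun x hx => hp.disj x (m₁.1 hx.1).1 (m₂.1 hx.2).1⟩
  obtain ⟨a, ha, b, hb, h1, h3, rfl⟩ := h S hS y hy
  exact mul_mem_sup (mem_NN ha h1) (mem_NN hb h3)

theorem Prd.cent {T₁ T₂ : Set G} (h : Prd T₁ T₂ ⊤) (hp : Pair T₁ T₂) {V : Subgroup G}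
    (hV : IsPGroup 2 V) : Prd T₁ T₂ 𝐂(V) := by
  intro P hP x hx
  obtain ⟨S, hS, h1⟩ := Sylow_superset (K := ⊤) le_top
    (isPGroup_sup hV hP.pgroup (cents_norm hP.le))
  have hVS : S ≤ 𝐍(S) := normG S
  have h2 := (h.dprod hp hS).subcent (A := V)
    (le_sup_left.trans (h1.trans (hp.f₁.NN_nrm S).nz))
    (le_sup_left.trans (h1.trans (hp.f₂.NN_nrm S).nz))
  have h3 : S ⊓ 𝐂(V) = P := sub_Sylow hP (pgroup_sub inf_le_left hS.pgroup)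
    (le_inf (le_sup_right.trans h1) hP.le) inf_le_right
  rw [h3] at h2
  obtain ⟨a, ha, b, hb, rfl⟩ := h2.exists hx
  exact ⟨a, ((hp.f₁.mem_NN_iff hS.pgroup).1 ha.1).1, b, ((hp.f₂.mem_NN_iff hS.pgroup).1 hb.1).1,
    h2.left_le ha, h2.right_le hb, rfl⟩

theorem Pair.cent {T₁ T₂ : Set G} (hp : Pair T₁ T₂) {P U R : Subgroup G} (hP : IsPGroup 2 P)
    (hU : ∀ x ∈ U, x ∈ T₁) (hR : ∀ x ∈ R, x ∈ T₂) (h1 : U ≤ P) (h2 : R ≤ P) : U ≤ 𝐂(R) :=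
  centsP.2 fun a ha b hb => hp.comm P hP a (hU a ha) b (hR b hb) (h1 ha) (h2 hb)

end

namespace Cfg

variable {G : Type u} [Group G] [Finite G] {T₁ T₂ : Set G} (c : Cfg T₁ T₂)
include c

theorem cent_ne {V : Subgroup G} (h : V ≠ ⊥) : 𝐂(V) ≠ ⊤ := fun e => h (eq_bot_iff.2
  ((nil_eq_bot c.h2 c.hO (center_normal ⊤) (abelian_nil (center_abelian _))) ▸
    le_inf le_top (centsC.1 e.ge)))

theorem norm_ne {L : Subgroup G} (h : L ≠ ⊥) (h' : L ≠ ⊤) : 𝐍(L) ≠ ⊤ := fun e =>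
  (c.simple.eq_bot_or_eq_top_of_normal L (norm_eq_top_iff.1 e)).elim h h'

theorem norm_odd {Y : Subgroup G} (h : Odd #|Y|) (e : ⊤ ≤ 𝐍(Y)) : Y = ⊥ :=
  eq_bot_iff.2 (c.hO ▸ le_core h ⟨le_top, e⟩)

theorem indc {V : Subgroup G} (hV : IsPGroup 2 V) (h : V ≠ ⊥) :
    ⁅NN T₁ 𝐂(V), NN T₂ 𝐂(V)⁆ ≤ 𝐎(𝐂(V)) :=
  c.ind _ (c.cent_ne h) (c.side.imp_left fun e => e.cent c.pair hV)

theorem ind1 {h : G} (h2 : orderOf h = 2) : ⁅NN T₁ 𝐂[h], NN T₂ 𝐂[h]⁆ ≤ 𝐎(𝐂[h]) := by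
  rw [← cent_cycle]
  exact c.indc (pgroup_invol (Tr.mul_self_of_orderOf_two h2))
    (mt cycle_eq1.1 (Tr.ne_one_of_orderOf_two h2))

theorem NN_le_CC {h : G} (h2 : orderOf h = 2) : NN T₁ 𝐂[h] ≤ CC T₂ h := fun x hx =>
  mem_CC.2 ⟨NN_le _ _ hx, fun t ht htc => c.ind1 h2 (mem_commg hx (mem_NN ht htc))⟩

theorem le_CC {h : G} (h2 : orderOf h = 2) {E : Subgroup G} (hE : ∀ e ∈ E, e ∈ T₁)
    (hc : E ≤ 𝐂[h]) : E ≤ CC T₂ h := (le_NN hE hc).trans (c.NN_le_CC h2)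

theorem exists_inv {S : Subgroup G} (hS : IsSylowIn 2 S ⊤) :
    ∃ z, Inv T₁ z ∧ z ∈ S ∧ ∀ x ∈ S, x * z = z * x := by
  obtain ⟨t, ht, h1⟩ := c.ne₁
  obtain ⟨g, -, hg⟩ := Sylow_Jsub hS le_top (c.pair.f₁.two t ht)
  exact c.pair.f₁.exists_central hS.pgroup (c.pair.f₁.conj t ht g)
    (hg (Tr.conj_mem_cj.2 (mem_zpowers t))) (by simpa using h1)

theorem exists_second {S : Subgroup G} (hS : IsSylowIn 2 S ⊤) {a : G} (ha : Inv T₁ a)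
    (haS : a ∈ S) : ∃ a', Inv T₁ a' ∧ a' ∈ S ∧ a ≠ a' ∧ a * a' = a' * a := by
  obtain ⟨z, hz, hzS, hc⟩ := c.exists_inv hS
  by_cases h : a = z
  swap
  · exact ⟨z, hz, hzS, h, hc a haS⟩
  subst h
  obtain ⟨g, hg, hne⟩ : ∃ g : G, Commute a (g * a * g⁻¹) ∧ g * a * g⁻¹ ≠ a := by
    by_contra hcon
    push Not at hcon
    have := ZStar.zstar_center (core_top_eq.symm.trans c.hO) ⟨ha.2, hcon⟩
    exact c.cent_ne (mt cycle_eq1.1 ha.ne) (by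
      rw [cent_cycle, eq_top_iff]
      exact fun x _ => mem_cent1.2 (mem_center_iff.1 this x))
  have hb := c.pair.f₁.inv_conj ha g
  obtain ⟨k, -, hk⟩ := Sylow_Jsub hS le_top (pgroup_pair ha.two hb.two hg.eq)
  have h1 := hk (Tr.conj_mem_cj.2 (mem_sup_left (mem_zpowers _)))
  have h2 := hk (Tr.conj_mem_cj.2 (mem_sup_right (mem_zpowers _)))
  by_cases h3 : a = k * a * k⁻¹
  · exact ⟨_, c.pair.f₁.inv_conj hb k, h2, fun e => hne (by simpa using (h3.symm.trans e).symm),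
      (hc _ h2).symm⟩
  · exact ⟨_, c.pair.f₁.inv_conj ha k, h1, h3, (hc _ h1).symm⟩

theorem exists_q4 {R : Subgroup G} (hR : IsPGroup 2 R) (hRT : ∀ r ∈ R, r ∈ T₂) {a : G}
    (ha : Inv T₁ a) (hc : a ∈ 𝐂(R)) : ∃ E, Q4 T₁ E ∧ a ∈ E ∧ E ≤ 𝐂(R) := by
  obtain ⟨S, hS, h1⟩ := Sylow_superset (K := ⊤) le_top
    (isPGroup_sup hR ha.two (cents_norm (cycle_subG.2 hc)))
  have haS := h1 (mem_sup_right (mem_zpowers a))
  obtain ⟨a', ha', ha'S, hne, h2⟩ := c.exists_second hS ha haS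
  have h3 := q4_four c.pair.f₁ ha ha' h2 hne
  exact ⟨_, h3, left_mem_four, c.pair.cent hS.pgroup h3.sub hRT (four_le haS ha'S)
    (le_sup_left.trans h1)⟩

theorem exists_q4_le {S : Subgroup G} (hS : IsSylowIn 2 S ⊤) : ∃ E, Q4 T₁ E ∧ E ≤ S := by
  obtain ⟨a, ha, haS, -⟩ := c.exists_inv hS
  obtain ⟨a', ha', ha'S, hne, h2⟩ := c.exists_second hS ha haS
  exact ⟨_, q4_four c.pair.f₁ ha ha' h2 hne, four_le haS ha'S⟩

/-- (*) -/
theorem star {a h : G} (ha : a ∈ T₁) (h2 : orderOf h = 2) (hc : a ∈ 𝐂[h]) :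
    CC T₂ a ⊓ 𝐂[h] ≤ CC T₂ h := fun x hx => mem_CC.2 ⟨hx.2, fun t ht htc => by
  have hR : zpowers a ≤ CC T₂ h := cycle_subG.2 (c.NN_le_CC h2 (mem_NN ha hc))
  obtain ⟨d, hd, h1⟩ := c.pair.f₂.lift_T (c.pair.f₁.two a ha) hR ht htc
  have h3 := c.pair.f₂.cover (c.pair.f₁.two a ha) hR (odd_core 𝐂[a])
    ((NN_le _ _).trans (inf_le_right.trans ((cent_cycle a).le.trans (norm_D a))))
  have ht' := c.pair.f₂.conj t ht d
  have hx' : x ∈ 𝐂[h] ⊓ 𝐂(zpowers a) := ⟨hx.2, by rw [cent_cycle]; exact hx.1.1⟩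
  have h4 := h3 (mem_inf.2 ⟨(mem_CC.1 hx.1).2 _ ht' ((cent_cycle a).le h1.2),
    mul_mem ((c.pair.f₂.NN_nrm _).conj_mem hx' (mem_NN ht' h1)) (inv_mem (mem_NN ht' h1))⟩)
  have h5 : d * t * d⁻¹ ∈ cmod 𝐎(𝐂[h]) {x} :=
    ⟨norm_D h h1.1, fun y hy => by rw [hy]; exact comm_mem_symm h4⟩
  have h6 : d ∈ cmod 𝐎(𝐂[h]) {x} := self_le_cmod (fun y hy => by rw [hy]; exact norm_D h hx.2) hd
  have h7 := mul_mem (mul_mem (inv_mem h6) h5) h6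
  refine comm_mem_symm ?_
  simpa [mul_assoc] using h7.2 x rfl⟩

theorem final {S Γ : Subgroup G} (hS : IsSylowIn 2 S ⊤) (hΓ : Γ ≠ ⊤)
    (h : ∀ a, Inv T₁ a → a ∈ S → 𝐂[a] ≤ Γ) : False := by
  obtain ⟨a, ha, haS, hc⟩ := c.exists_inv hS
  have hSΓ : S ≤ Γ := fun x hx => h a ha haS (mem_cent1.2 (hc x hx))
  have h1 : ∀ e, Inv T₁ e → e ∈ Γ → 𝐂[e] ≤ Γ := fun e he heΓ => by
    obtain ⟨g, hg, h2⟩ := Sylow_Jsub (Sylow_subl hSΓ le_top hS) (cycle_subG.2 heΓ) he.two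
    have h3 := h _ (c.pair.f₁.inv_conj he g) (h2 (Tr.conj_mem_cj.2 (mem_zpowers e)))
    rwa [cent1J, Tr.cj_le_iff_le_cj_inv, Tr.cj_eq_of_mem (inv_mem hg)] at h3
  have h2 : ∀ b, Inv T₂ b → b ∈ Γ := fun b hb => by
    obtain ⟨z, hz, v, hv, ⟨k, hk⟩, hv2, e⟩ := Tr.exists_p_part (p := 2) (b * a)
    have hvo : Odd (orderOf v) := Nat.coprime_two_right.1 hv2
    have ia : ∀ w ∈ zpowers (b * a), a * w * a⁻¹ = w⁻¹ := fun w hw =>
      Tr.conj_eq_inv_of_mem_zpowers (Tr.conj_mul_eq_inv_right hb.sq ha.sq) hw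
    have ib : ∀ w ∈ zpowers (b * a), b * w * b⁻¹ = w⁻¹ := fun w hw =>
      Tr.conj_eq_inv_of_mem_zpowers (Tr.conj_mul_eq_inv_left hb.sq ha.sq) hw
    have hzv : z * v = v * z := abelian_comm (cycle_abelian _) hz hv
    have hb' : Inv T₂ (z * a) := by
      obtain ⟨n, hn⟩ := Tr.mem_zpowers_sq_of_odd hvo
      have h3 : v ^ n ∈ zpowers (b * a) := zpow_mem hv n
      have h4 := Tr.conj_eq_of_inverts (ib _ (inv_mem h3))
      have h5 : (v ^ n)⁻¹ * (v ^ n)⁻¹ * b = z * a := by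
        have h6 : v ^ n * v ^ n = v := by
          rw [← (Commute.refl v).mul_zpow]
          exact hn
        rw [← mul_inv_rev, h6, inv_mul_eq_iff_eq_mul, ← mul_assoc, ← hzv, ← e, mul_assoc, ha.sq,
          mul_one]
      exact h5 ▸ h4 ▸ c.pair.f₂.inv_conj hb _
    have h3 : a * (z * a) = z * a * a := c.pair.comm (zpowers z ⊔ zpowers a)
      (isPGroup_sup (Tr.isPGroup_zpowers hk) ha.two (cycle_subG.2 (mem_norm_cycle.2
        (ia z hz ▸ inv_mem (mem_zpowers z))))) a ha.1 _ hb'.1 (mem_sup_right (mem_zpowers a))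
      (mul_mem_sup (mem_zpowers z) (mem_zpowers a))
    have haz : a * z = z * a := mul_right_cancel (by rw [mul_assoc, h3])
    have hzz : z⁻¹ = z := by rw [← ia z hz, haz, mul_inv_cancel_right]
    have hz2 : orderOf z = 2 := Tr.orderOf_eq_two (by nth_rw 1 [← hzz]; simp) fun e =>
      ha.ne (c.pair.disj a ha.1 (by simpa [e] using hb'.1))
    have hac : a ∈ 𝐂[z] := mem_cent1.2 haz
    have hbc : b ∈ 𝐂[z] := cent1_conj.2 ((ib z hz).trans hzz)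
    have hvc : v ∈ 𝐂[z] := mem_cent1.2 hzv.symm
    have h4 : v ∈ NN T₂ 𝐂[z] := Tr.mem_of_mul_self_mem_of_odd hvo (by
      have := mul_mem ((c.pair.f₂.NN_nrm _).conj_mem hvc (mem_NN hb.1 hbc))
        (inv_mem (mem_NN hb.1 hbc))
      rwa [Tr.conj_eq_of_inverts (ib v hv), mul_inv_cancel_right] at this)
    have h5 : v ∈ 𝐎(𝐂[z]) := Tr.mem_of_mul_self_mem_of_odd hvo (by
      have := inv_mem (c.ind1 hz2 (mem_commg (mem_NN ha.1 hac) h4))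
      rwa [ia v hv, mul_inv_rev, inv_inv] at this)
    obtain ⟨E, hE, haE, hEc⟩ := c.exists_q4 hb'.two
      (fun r hr => c.pair.f₂.of_mem_zpowers hb'.1 hr) ha (by rw [cent_cycle, mem_cent1]; exact h3)
    have hEa := four_cent1 hE.four haE
    have hEz : E ≤ 𝐂[z] := fun x hx => by
      have h6 := mul_mem (cent1C.1 ((cent_cycle _).le (hEc hx))) (inv_mem (cent1C.1 (hEa hx)))
      rw [mul_inv_cancel_right] at h6
      exact cent1C.1 h6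
    have h6 : 𝐎(𝐂[z]) ≤ Γ := gen4 hE.four (odd_core _) (hEz.trans (norm_D z)) fun e he he1 =>
      inf_le_right.trans (h1 e (hE.inv he he1) (h a ha haS (hEa he)))
    have h7 := mul_mem (mul_mem (h a ha haS (cent1C.1 hac)) (h6 h5)) (inv_mem (hSΓ haS))
    rwa [← e, mul_inv_cancel_right] at h7
  obtain ⟨b, hb, -⟩ := c.symm.exists_inv hS
  refine c.norm_ne (L := closure {b | Inv T₂ b}) (trivgPn.2 ⟨b, subset_closure hb, hb.ne⟩)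
    (fun e => hΓ (top_le_iff.1 (e ▸ (closure_le _).2 h2))) (top_le_iff.1 ?_)
  exact norms_gen fun g _ x hx => c.pair.f₂.inv_conj hx g

end Cfg

end Cfsg.Agent.SF.GP
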