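import Cfsg.Agent.Lib.SF.ThmA2

/-! Theorem A of `docs/SF_PLAN.md`: the case of two disconnected graphs. -/

set_option autoImplicit false
set_option linter.unusedSectionVars false
set_option linter.unusedVariables false

namespace Cfsg.Agent.SF.GP

open Subgroup Cfsg.Agent.FT

universe u

section
variable {G : Type*} [Group G]

theorem comm_of_conj {D : Subgroup G} {d s e : G} (hd : d ∈ D) (he : e ∈ 𝐍(D)) (hs : s ∈ 𝐍(D))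
    (h : d * s * d⁻¹ * e * (d * s * d⁻¹)⁻¹ * e⁻¹ ∈ D) : s * e * s⁻¹ * e⁻¹ ∈ D := by
  have h6 : d ∈ cmod D {e} := self_le_cmod (fun y hy => by rw [hy]; exact he) hd
  have h5 : d * s * d⁻¹ ∈ cmod D {e} :=
    ⟨mul_mem (mul_mem h6.1 hs) (inv_mem h6.1), fun y hy => by rw [hy]; exact h⟩
  simpa [mul_assoc] using (mul_mem (mul_mem (inv_mem h6) h5) h6).2 e rfl

theorem D_conj {a x : G} (g : G) (h : x ∈ 𝐎(𝐂[a])) : g * x * g⁻¹ ∈ 𝐎(𝐂[g * a * g⁻¹]) := by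
  rw [cent1J, pcoreJ]
  exact Tr.conj_mem_cj.2 h

/-- `O(C(h)) O(C(A))` -/
def QQ (A : Subgroup G) (h : G) : Subgroup G := 𝐎(𝐂[h]) ⊔ 𝐎(𝐂(A))

theorem O_norm_D {A : Subgroup G} {h : G} (hA : h ∈ A) : 𝐎(𝐂(A)) ≤ 𝐍(𝐎(𝐂[h])) :=
  (pcore_sub _ _).trans ((cent_le_cent1 hA).trans (norm_D h))

theorem QQ_le {A : Subgroup G} {h : G} (hA : h ∈ A) : QQ A h ≤ 𝐂[h] :=
  sup_le (D_le h) ((pcore_sub _ _).trans (cent_le_cent1 hA))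

theorem QQ_norm {A : Subgroup G} {h : G} (hA : h ∈ A) : 𝐂(A) ≤ 𝐍(QQ A h) :=
  normsY ((cent_le_cent1 hA).trans (norm_D h)) (pcore_norm _ _)

theorem QQ_inf {A : Subgroup G} {h : G} (hA : h ∈ A) {Y : Subgroup G} (hY : 𝐂(A) ≤ Y) :
    QQ A h ⊓ Y = (𝐎(𝐂[h]) ⊓ Y) ⊔ 𝐎(𝐂(A)) :=
  (group_modr (O_norm_D hA) ((pcore_sub _ _).trans hY)).symm

variable [Finite G]

theorem QQ_odd {A : Subgroup G} {h : G} (hA : h ∈ A) : Odd #|QQ A h| :=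
  odd_sup (odd_core _) (odd_core _) (O_norm_D hA)

theorem QQ_cent {A : Subgroup G} {h : G} (hA : h ∈ A) : QQ A h ⊓ 𝐂(A) ≤ 𝐎(𝐂(A)) := by
  rw [QQ_inf hA le_rfl]
  exact sup_le (inf_core_le (cent_le_cent1 hA)) le_rfl

theorem Pair.abelem {T₁ T₂ : Set G} (hp : Pair T₁ T₂) {Z E₁ E₂ : Subgroup G} (hZ : Abelem 2 Z)
    (h₁ : Q4 T₁ E₁) (hE : E₁ ≤ Z) (h₂ : Q4 T₂ E₂) (hc : Z ≤ 𝐂(E₂)) :
    Abelem 2 (Z ⊔ E₂) ∧ 8 ≤ #|Z ⊔ E₂| := by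
  refine ⟨abelemY hZ (four_abelem h₂.four) (centsC.1 hc), le_trans ?_
    (subset_leq_card (sup_le_sup_right hE E₂))⟩
  rw [TI_cardMg (cents_norm (centsC.1 (hE.trans hc)))
    (eq_bot_iff.2 fun x hx => hp.disj x (h₁.sub x hx.1) (h₂.sub x hx.2)),
    h₁.four.card_four, h₂.four.card_four]
  norm_num

end

namespace Cfg

variable {G : Type u} [Group G] [Finite G] {T₁ T₂ : Set G} (c : Cfg T₁ T₂)
include c

theorem pd (hB : BScStmt.{u}) {E₂ : Subgroup G} (h₂ : Q4 T₂ E₂) (hd : Dis (T₁ ∩ 𝐂(E₂))) {t u : G}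
    (ht : Inv (T₁ ∩ 𝐂(E₂)) t) (h : Conn (T₁ ∩ 𝐂(E₂)) t u) :
    t * u * t⁻¹ * u⁻¹ ∈ 𝐎(NN T₁ 𝐂(E₂)) := by
  refine propD hB c.pair.f₁ (fun t ht htc => ?_) (c.side.imp_left fun hs x hx hx2 => ?_) hd ht h
  · obtain ⟨E, hE, htE, hEc⟩ := c.exists_q4 h₂.two h₂.sub ht htc
    obtain ⟨b, hb, hb1, hbt⟩ := TwoGrp.kleinFour_exists_ne hE.four t
    exact ⟨b, hE.inv hb hb1, hEc hb, hbt.symm, TwoGrp.kleinFour_comm hE.four htE hb⟩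
  · obtain ⟨P, hP, hxP⟩ := Sylow_superset (cycle_subG.2 (NN_le _ _ hx)) hx2
    obtain ⟨a, ha, b, hb, h1, h2, rfl⟩ := hs.cent c.pair h₂.two P hP x (hxP (mem_zpowers x))
    refine ⟨a, ha, hP.le h1, fun g hg => inf_core_le (NN_le T₁ _) (mem_inf.2 ⟨?_, ?_⟩)⟩
    · rw [inv_mul_cancel_left]
      exact comm_mem_symm (c.indc h₂.two (four_ne_bot h₂.four)
        (mem_commg hg (mem_NN hb (hP.le h2))))
    · have := mul_mem (inv_mem (mem_NN ha (hP.le h1))) hx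
      exact mul_mem (mul_mem (mul_mem this hg) (inv_mem this)) (inv_mem hg)

theorem pd_loc (hB : BScStmt.{u}) {E₂ : Subgroup G} (h₂ : Q4 T₂ E₂) (hd : Dis (T₁ ∩ 𝐂(E₂)))
    {h : G} (h2 : orderOf h = 2) (hc : E₂ ≤ 𝐂[h]) {t u : G} (ht : Inv (T₁ ∩ 𝐂(E₂)) t)
    (htu : Conn (T₁ ∩ 𝐂(E₂)) t u) (htc : t ∈ 𝐂[h]) (huc : u ∈ 𝐂[h]) :
    t * u * t⁻¹ * u⁻¹ ∈ 𝐎(𝐂[h]) := by
  have hu := htu.inv ht
  have h1 : t ∈ NN T₁ (𝐂[h] ⊓ 𝐂(E₂)) := mem_NN ht.1.1 ⟨htc, ht.1.2⟩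
  have h3 : u ∈ NN T₁ (𝐂[h] ⊓ 𝐂(E₂)) := mem_NN hu.1.1 ⟨huc, hu.1.2⟩
  exact c.pair.f₁.cover h₂.two (c.symm.le_CC h2 h₂.sub hc) (odd_core _)
    ((NN_mono T₁ inf_le_right).trans (pcore_norm _ _)) (mem_inf.2 ⟨c.pd hB h₂ hd ht htu,
      mul_mem (mul_mem (mul_mem h1 h3) (inv_mem h1)) (inv_mem h3)⟩)

theorem d1 (hB : BScStmt.{u}) {E₁ E₂ : Subgroup G} (h₁ : Q4 T₁ E₁) (h₂ : Q4 T₂ E₂)
    (h12 : E₁ ≤ 𝐂(E₂)) (hd : Dis (T₁ ∩ 𝐂(E₂))) {h : G} (h2 : orderOf h = 2) (hc₁ : E₁ ≤ 𝐂[h])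
    (hc₂ : E₂ ≤ 𝐂[h]) {X : Subgroup G} (hX : Odd #|X|) (hXc : X ≤ 𝐂[h]) (hn : E₁ ≤ 𝐍(X)) {e : G}
    (he : e ∈ T₁) (hee : e * e = 1) (he₁ : e ∈ 𝐂(E₁)) (he₂ : e ∈ 𝐂(E₂)) (hec : e ∈ 𝐂[h])
    (heX : e ∈ 𝐍(X)) : e ∈ cmod 𝐎(𝐂[h]) X := by
  by_cases he1 : e = 1
  · exact he1 ▸ one_mem _
  have hi : Inv T₁ e := ⟨he, Tr.orderOf_eq_two hee he1⟩
  have key : X ≤ cmod 𝐎(𝐂[h]) {e} := gen4 h₁.four hX hn fun a ha ha1 x hx => by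
    refine ⟨norm_D h (hXc hx.1), fun y hy => ?_⟩
    rw [hy]
    have hs := c.pair.f₁.inv_conj hi x
    have hsc : x * e * x⁻¹ ∈ 𝐂[h] := mul_mem (mul_mem (hXc hx.1) hec) (inv_mem (hXc hx.1))
    have hsa : x * e * x⁻¹ ∈ 𝐂[a] :=
      mul_mem (mul_mem hx.2 (cent_le_cent1 ha he₁)) (inv_mem hx.2)
    have hR : zpowers a ⊔ E₂ ≤ cmod 𝐎(𝐂[h]) {x * e * x⁻¹} := sup_le
      (cycle_subG.2 ⟨norm_D h (hc₁ ha), fun y hy => by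
        rw [hy, cent1_conj'.1 hsa, mul_inv_cancel]; exact one_mem _⟩)
      fun b hb => ⟨norm_D h (hc₂ hb), fun y hy => by
        rw [hy]; exact (mem_CC.1 (c.symm.le_CC h2 h₂.sub hc₂ hb)).2 _ hs.1 hsc⟩
    obtain ⟨d, hd', h3⟩ := lift_elt (odd_core 𝐂[h]) hs.two
      (isPGroup_sup' (h₁.inv ha ha1).two h₂.two (cents_norm (cycle_subG.2 (h12 ha))))
      (norm_D h hsc) (fun r hr => (hR hr).1) fun r hr => comm_mem_symm ((hR hr).2 _ rfl)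
    rw [centY, cent_cycle] at h3
    have ht : Inv (T₁ ∩ 𝐂(E₂)) (d * (x * e * x⁻¹) * d⁻¹) :=
      (c.pair.f₁.inv_conj hs d).mono ⟨c.pair.f₁.conj _ hs.1 d, h3.2⟩
    have ha' : Inv (T₁ ∩ 𝐂(E₂)) a := (h₁.inv ha ha1).mono ⟨h₁.sub a ha, h12 ha⟩
    have h4 := comm_of_conj hd' (norm_D h hec) (norm_D h hsc) (c.pd_loc hB h₂ hd h2 hc₂ ht
      ((conn_of ht ha' (mem_cent1.1 h3.1)).trans (conn_of ha' (hi.mono ⟨he, he₂⟩)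
        (mem_cent.1 he₁ a ha))) (mul_mem (mul_mem (D_le h hd') hsc) (inv_mem (D_le h hd'))) hec)
    have h5 : x * e * x⁻¹ * e⁻¹ ∈ X := by
      have := X.mul_mem hx.1 ((memJ_norm heX).2 (X.inv_mem hx.1))
      simpa only [mul_assoc] using this
    refine Tr.mem_of_mul_self_mem_of_odd (Tr.odd_orderOf_of_odd_card hX h5) ?_
    rw [hs.inv_eq, hi.inv_eq] at h4
    rw [hi.inv_eq]
    simpa only [mul_assoc] using h4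
  exact ⟨norm_D h hec, fun x hx => comm_mem_symm ((key hx).2 e rfl)⟩

theorem caseD (hB : BScStmt.{u}) (hF : SFTStmt.{u}) {S E₁ E₂ : Subgroup G}
    (hS : IsSylowIn 2 S ⊤) (h₁ : Q4 T₁ E₁) (h₂ : Q4 T₂ E₂) (hS₁ : E₁ ≤ S) (hS₂ : E₂ ≤ S)
    (hd₁ : Dis (T₁ ∩ 𝐂(E₂))) (hd₂ : Dis (T₂ ∩ 𝐂(E₁))) : False := by
  have f₁ := c.pair.f₁
  have hc₂ : ∀ z ∈ T₁, z ∈ S → z ∈ T₁ ∩ 𝐂(E₂) := fun z hz hzS => ⟨hz, mem_cent.2 fun b hb =>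
    (c.pair.comm S hS.pgroup z hz b (h₂.sub b hb) hzS (hS₂ hb)).symm⟩
  have hconn : ∀ t u, Inv T₁ t → Inv T₁ u → t ∈ S → u ∈ S → Conn (T₁ ∩ 𝐂(E₂)) t u :=
    fun t u ht hu htS huS => conn2 f₁ hS.pgroup Set.inter_subset_left hc₂
      (ht.mono (hc₂ t ht.1 htS)) (hu.mono (hc₂ u hu.1 huS)) htS huS
  obtain ⟨Z, hZ⟩ : ∃ Z, Z = closure {t | Inv T₁ t ∧ t ∈ S} := ⟨_, rfl⟩
  have hmZ : ∀ t, Inv T₁ t → t ∈ S → t ∈ Z := fun t ht htS => hZ ▸ subset_closure ⟨ht, htS⟩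
  have hZN : Z ≤ NN T₁ S := hZ ▸ closure_mono fun t ht => ⟨ht.1.1, ht.2⟩
  have hZT : ∀ z ∈ Z, z ∈ T₁ := fun z hz => ((f₁.mem_NN_iff hS.pgroup).1 (hZN hz)).1
  have hZS : Z ≤ S := hZN.trans (NN_le _ _)
  have hZ2 : IsPGroup 2 Z := pgroup_sub hZS hS.pgroup
  have hZa : Abelem 2 Z := hZ ▸ abelem_gen (fun t ht u hu => by
      have := eq_one_of_odd (odd_core _) hS.pgroup (c.pd hB h₂ hd₁ (ht.1.mono (hc₂ t ht.1.1 ht.2))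
        (hconn t u ht.1 hu.1 ht.2 hu.2))
        (mul_mem (mul_mem (mul_mem ht.2 hu.2) (inv_mem ht.2)) (inv_mem hu.2))
      rwa [mul_inv_eq_one, mul_inv_eq_iff_eq_mul] at this)
    fun t ht => by rw [sq, ht.1.sq]
  have hZi : ∀ z ∈ Z, z ≠ 1 → Inv T₁ z := fun z hz h1 => ⟨hZT z hz, abelem_order_p hZa hz h1⟩
  have hEZ : E₁ ≤ Z := fun e he => by
    by_cases h1 : e = 1
    · exact h1 ▸ one_mem Z
    · exact hmZ e (h₁.inv he h1) (hS₁ he)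
  have hZc : Z ≤ 𝐂(E₂) := fun z hz => (hc₂ z (hZT z hz) (hZS hz)).2
  have hmax : ∀ t, Inv T₁ t → t ∈ 𝐂(Z) → t ∈ Z := fun t ht htc => by
    have h1 := abelem_sup_cycle hZa htc (by rw [sq, ht.sq])
    have h2 : Z ⊔ zpowers t ≤ NN T₁ (Z ⊔ zpowers t) := sup_le (le_NN hZT le_sup_left)
      (cycle_subG.2 (mem_NN ht.1 (mem_sup_right (mem_zpowers t))))
    obtain ⟨g, -, hg⟩ := Sylow_Jsub hS le_top (abelem_pgroup h1)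
    have h3 : cj g (Z ⊔ zpowers t) ≤ Z := Tr.cj_le_iff.2 fun x hx => by
      by_cases h4 : x = 1
      · simp [h4]
      · exact hmZ _ (f₁.inv_conj ⟨((f₁.mem_NN_iff (abelem_pgroup h1)).1 (h2 hx)).1,
          abelem_order_p h1 hx h4⟩ g) (hg (Tr.conj_mem_cj.2 hx))
    exact (eq_of_le_card (le_sup_left (a := Z) (b := zpowers t))
      (Tr.card_cj g _ ▸ subset_leq_card h3)).ge (mem_sup_right (mem_zpowers t))
  obtain ⟨hA, hA8⟩ := c.pair.abelem hZa h₁ hEZ h₂ hZc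
  have hAc : ∀ h ∈ Z ⊔ E₂, Z ⊔ E₂ ≤ 𝐂[h] := fun h hh => (abelem_cent hA).trans (cent_le_cent1 hh)
  obtain ⟨W, hWo, -, hW⟩ := hF G (Z ⊔ E₂) (QQ (Z ⊔ E₂)) hA hA8 ⟨fun a ha _ => QQ_odd ha,
    fun a ha _ => QQ_le ha, fun a ha _ => (abelem_cent hA).trans (QQ_norm ha),
    fun a ha _ h hh h1 => by
      have h2 := abelem_order_p hA hh h1
      have hn : Z ⊔ E₂ ≤ 𝐍(QQ (Z ⊔ E₂) a ⊓ 𝐂[h]) :=
        normsI ((abelem_cent hA).trans (QQ_norm ha)) (normsG (hAc h hh))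
      have ho := odd_of_le (inf_le_left (b := 𝐂[h])) (QQ_odd ha)
      refine le_of_comm_cent ho (abelem_pgroup hA) hn (le_sup_of_le_left ?_)
        (le_sup_of_le_right ((inf_le_inf_right _ inf_le_left).trans (QQ_cent ha)))
      rw [commGC]
      refine comm_le_of_le_cmod (sup_le (fun e he => ?_) fun e he => ?_)
      · exact c.d1 hB h₁ h₂ (hEZ.trans hZc) hd₁ h2 (hEZ.trans (le_sup_left.trans (hAc h hh)))
          (le_sup_right.trans (hAc h hh)) ho inf_le_right (hEZ.trans (le_sup_left.trans hn))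
          (hZT e he) (by rw [← sq, abelem_pow hZa he]) (centS hEZ (abelem_cent hZa he)) (hZc he)
          (hAc h hh (mem_sup_left he)) (hn (mem_sup_left he))
      · exact c.symm.d1 hB h₂ h₁ (centsC.1 (hEZ.trans hZc)) hd₂ h2
          (le_sup_right.trans (hAc h hh)) (hEZ.trans (le_sup_left.trans (hAc h hh))) ho
          inf_le_right (le_sup_right.trans hn) (h₂.sub e he)
          (TwoGrp.kleinFour_mul_self h₂.four he) (four_cent h₂.four he)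
          (centsC.1 (hEZ.trans hZc) he) (hAc h hh (mem_sup_right he)) (hn (mem_sup_right he))⟩
  obtain ⟨V, hV⟩ : ∃ V, V = closure {x | ∃ a ∈ Z, a ≠ 1 ∧ x ∈ 𝐎(𝐂[a])} := ⟨_, rfl⟩
  have hVW : V ≤ W := hV ▸ (closure_le _).2 fun x ⟨a, ha, h1, hx⟩ =>
    ((hW a (mem_sup_left ha) h1).ge (mem_sup_left hx)).1
  have hVn : 𝐍(Z) ≤ 𝐍(V) := hV ▸ norms_gen fun g hg x ⟨a, ha, h1, hx⟩ =>
    ⟨g * a * g⁻¹, (memJ_norm hg).2 ha, by simpa using h1, D_conj g hx⟩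
  refine c.final (Γ := V ⊔ 𝐍(Z)) hS (fun e => ?_) fun a ha haS g hg => ?_
  · rw [c.norm_odd (odd_of_le hVW hWo) (e.ge.trans (sup_le (normG V) hVn)), bot_sup_eq] at e
    have h1 : Z ≠ ⊥ := fun h => four_ne_bot h₁.four (eq_bot_iff.2 (h ▸ hEZ))
    exact c.norm_ne h1 (fun h => c.cent_ne h1 (top_le_iff.1 (h.ge.trans (abelem_cent hZa)))) e
  have haZ := hmZ a ha haS
  have hZa' : Z ≤ 𝐂[a] := (abelem_cent hZa).trans (cent_le_cent1 haZ)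
  have hEa : E₂ ≤ 𝐂[a] := sub_cent1.2 (hZc haZ)
  have key : ∀ t, Inv T₁ t → t ∈ 𝐂[a] → t ∈ 𝐎(𝐂[a]) ⊔ Z := fun t ht htc => by
    obtain ⟨d, hd, h1⟩ := f₁.lift_T h₂.two (c.symm.le_CC ha.2 h₂.sub hEa) ht.1 htc
    have ht' := f₁.inv_conj ht d
    have ht'' : Inv (T₁ ∩ 𝐂(E₂)) (d * t * d⁻¹) := ht'.mono ⟨ht'.1, h1.2⟩
    obtain ⟨d', hd', h2⟩ := lift_elt (odd_core 𝐂[a]) ht'.two hZ2 (norm_D a h1.1)
      (hZa'.trans (norm_D a)) fun e he => by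
        by_cases h3 : e = 1
        · simp [h3]
        · exact c.pd_loc hB h₂ hd₁ ha.2 hEa ht'' ((conn_of ht'' (ha.mono (hc₂ a ha.1 haS))
            (mem_cent1.1 h1.1)).trans (hconn a e ha (hZi e he h3) haS (hZS he))) h1.1 (hZa' he)
    have h3 := mul_mem (mul_mem (mem_sup_left (inv_mem (mul_mem hd' hd)))
      (mem_sup_right (S := 𝐎(𝐂[a])) (hmax _ (f₁.inv_conj ht' d') h2)))
      (mem_sup_left (mul_mem hd' hd))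
    simpa [mul_assoc] using h3
  have hsyl : IsSylowIn 2 Z (𝐎(𝐂[a]) ⊔ Z) := ⟨le_sup_right, hZ2, by
    rw [index_join_right (hZa'.trans (norm_D a))]
    exact fun h => p'core_not_dvd 2 _ (h.trans (dvdn_indexg _ _))⟩
  obtain ⟨x, hx, h1⟩ := Sylow_Jsub hsyl (Q := cj g Z) (Tr.cj_le_iff.2 fun z hz => by
    by_cases h3 : z = 1
    · simp [h3]
    · exact key _ (f₁.inv_conj (hZi z hz h3) g) (mul_mem (mul_mem hg (hZa' hz)) (inv_mem hg)))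
    (Tr.isPGroup_cj g hZ2)
  rw [← Tr.cj_mul] at h1
  have h2 : 𝐎(𝐂[a]) ⊔ Z ≤ V ⊔ 𝐍(Z) :=
    sup_le_sup (hV ▸ fun y hy => subset_closure ⟨a, haZ, ha.ne, hy⟩) (normG Z)
  simpa using mul_mem (inv_mem (h2 hx)) (mem_sup_right (Tr.mem_normalizer_of_cj_le h1))

end Cfg

end Cfsg.Agent.SF.GP
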