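import Cfsg.Agent.Lib.SF.ThmA3

/-! Theorem A of `docs/SF_PLAN.md`: the signalizer functor of a pair of four-groups. -/

set_option autoImplicit false
set_option linter.unusedSectionVars false
set_option linter.unusedVariables false

namespace Cfsg.Agent.SF.GP

open Subgroup Cfsg.Agent.FT

universe u

section
variable {G : Type*} [Group G]

/-- half of the definition of a good subgroup -/
def HG (T : Set G) (E X : Subgroup G) : Prop := ∀ a ∈ E, a ≠ 1 → X ⊓ 𝐂[a] ≤ CC T a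

theorem HG.mono {T : Set G} {E X Y : Subgroup G} (h : HG T E X) (hY : Y ≤ X) : HG T E Y :=
  fun a ha h1 => (inf_le_inf_right _ hY).trans (h a ha h1)

/-- the intersection of the `CC T b` -/
def CE (T : Set G) (E : Subgroup G) : Subgroup G := ⨅ b ∈ {b : G | b ∈ E ∧ b ≠ 1}, CC T b

theorem le_CE {T : Set G} {E X : Subgroup G} : X ≤ CE T E ↔ ∀ b ∈ E, b ≠ 1 → X ≤ CC T b := by
  simp [CE]

/-- the largest `E`-invariant subgroup of `X` with `HG T E` -/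
def RR (T : Set G) (E X : Subgroup G) : Subgroup G := ⁅X, E⁆ ⊔ (X ⊓ 𝐂(E) ⊓ CE T E)

theorem RR_le {T : Set G} {E X : Subgroup G} (h : E ≤ 𝐍(X)) : RR T E X ≤ X :=
  sup_le (commg_subl.2 h) (inf_le_left.trans inf_le_left)

theorem RR_norm {T : Set G} (hT : Fam T) {E X A : Subgroup G} (h : A ≤ 𝐍(X)) (hc : A ≤ 𝐂(E)) :
    A ≤ 𝐍(RR T E X) :=
  normsY (normsR h (cents_norm hc)) (normsI (normsI h (normsG hc))
    (norms_iInf fun b => norms_iInf fun hb => (hc.trans (cent_le_cent1 hb.1)).trans (hT.norm_CC b)))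

/-- what is used of the completion of the functor -/
structure Cmp (E₁ E₂ W : Subgroup G) : Prop where
  odd : Odd #|W|
  nz : E₁ ⊔ E₂ ≤ 𝐍(W)
  loc : ∀ h ∈ E₁ ⊔ E₂, h ≠ 1 → W ⊓ 𝐂[h] ≤ QQ (E₁ ⊔ E₂) h
  le₁ : ∀ a ∈ E₁, a ≠ 1 → ⁅𝐎(𝐂[a]), E₂⁆ ≤ W
  le₂ : ∀ b ∈ E₂, b ≠ 1 → ⁅𝐎(𝐂[b]), E₁⁆ ≤ W

theorem Cmp.symm {E₁ E₂ W : Subgroup G} (h : Cmp E₁ E₂ W) : Cmp E₂ E₁ W :=
  ⟨h.odd, sup_comm E₁ E₂ ▸ h.nz, sup_comm E₁ E₂ ▸ h.loc, h.le₂, h.le₁⟩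

/-- good subgroups -/
structure Good (T₁ T₂ : Set G) (E₁ E₂ A X : Subgroup G) : Prop where
  odd : Odd #|X|
  nz : A ≤ 𝐍(X)
  g₁ : HG T₂ E₁ X
  g₂ : HG T₁ E₂ X
  cent : X ⊓ 𝐂(A) ≤ 𝐎(𝐂(A))

theorem Good.symm {T₁ T₂ : Set G} {E₁ E₂ A X : Subgroup G} (h : Good T₁ T₂ E₁ E₂ A X) :
    Good T₂ T₁ E₂ E₁ A X := ⟨h.odd, h.nz, h.g₂, h.g₁, h.cent⟩

theorem Good.mono {T₁ T₂ : Set G} {E₁ E₂ A X Y : Subgroup G} (h : Good T₁ T₂ E₁ E₂ A X)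
    (hY : Y ≤ X) (hn : A ≤ 𝐍(Y)) : Good T₁ T₂ E₁ E₂ A Y :=
  ⟨odd_of_le hY h.odd, hn, h.g₁.mono hY, h.g₂.mono hY, (inf_le_inf_right _ hY).trans h.cent⟩

variable [Finite G]

theorem le_RR {T : Set G} {E X Q : Subgroup G} (hE : IsPGroup 2 E) (hX : Odd #|X|) (hn : E ≤ 𝐍(X))
    (hQ : X ≤ Q) (h : HG T E X) : X ≤ RR T E Q :=
  le_of_comm_cent hX hE hn (le_sup_of_le_left (commSg E hQ)) (le_sup_of_le_right (le_inf
    (inf_le_inf_right _ hQ) (le_CE.2 fun b hb h1 =>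
      (inf_le_inf_left X (cent_le_cent1 hb)).trans (h b hb h1))))

end

namespace Cfg

variable {G : Type u} [Group G] [Finite G] {T₁ T₂ : Set G} (c : Cfg T₁ T₂)
include c

theorem hg_le {E₁ X : Subgroup G} (h₁ : Q4 T₁ E₁) (hX : Odd #|X|) (hn : E₁ ≤ 𝐍(X))
    (hg : HG T₂ E₁ X) {h : G} (h2 : orderOf h = 2) (hc : E₁ ≤ 𝐂[h]) (hXc : X ≤ 𝐂[h]) :
    X ≤ CC T₂ h :=
  gen4 h₁.four hX hn fun a ha h1 => (le_inf (hg a ha h1) (inf_le_left.trans hXc)).trans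
    (c.star (h₁.sub a ha) h2 (hc ha))

theorem comm_le_CC {E₁ X : Subgroup G} (h₁ : Q4 T₁ E₁) {a : G} (ha : a ∈ E₁) (h1 : a ≠ 1)
    (hX : X ≤ 𝐂[a]) : ⁅X, E₁⁆ ≤ CC T₂ a :=
  ((c.pair.f₁.NN_nrm 𝐂[a]).commutator_le_right le_rfl).trans' (commgSS hX
    (le_NN h₁.sub (four_cent1 h₁.four ha))) |>.trans (c.NN_le_CC (h₁.inv ha h1).2)

theorem hg_RR [Fact OddOrderThm.{u}] {E₁ X : Subgroup G} (h₁ : Q4 T₁ E₁) (hX : Odd #|X|)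
    (hn : E₁ ≤ 𝐍(X)) : HG T₂ E₁ (RR T₂ E₁ X) := fun a ha h1 => by
  refine le_of_comm_cent (odd_of_le (inf_le_left.trans (RR_le hn)) hX) h₁.two
    (normsI (RR_norm c.pair.f₂ hn (four_cent h₁.four)) (normsG (four_cent1 h₁.four ha)))
    (c.comm_le_CC h₁ ha h1 inf_le_right) ((inf_le_inf_right _ inf_le_left).trans ?_)
  rw [RR, ← group_modr ((inf_le_left.trans inf_le_left).trans (commg_norml X E₁))
    (inf_le_left.trans inf_le_right)]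
  refine sup_le ((lemG4 h₁.four hX hn).trans (zG_le fun e he he1 => ?_))
    (inf_le_right.trans (le_CE.1 le_rfl a ha h1))
  exact (inf_le_inf (c.comm_le_CC h₁ he he1 inf_le_right) (cent_le_cent1 ha)).trans
    (c.star (h₁.sub e he) (h₁.inv ha h1).2 (four_cent1 h₁.four ha he))

theorem good_le {E₁ E₂ X : Subgroup G} (h₁ : Q4 T₁ E₁) (h₂ : Q4 T₂ E₂) (h12 : E₁ ≤ 𝐂(E₂))
    (hg : Good T₁ T₂ E₁ E₂ (E₁ ⊔ E₂) X) {h : G} (hh : h ∈ E₁ ⊔ E₂) (h1 : h ≠ 1) (hX : X ≤ 𝐂[h]) :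
    X ≤ QQ (E₁ ⊔ E₂) h := by
  obtain ⟨hA, -⟩ := c.pair.abelem (four_abelem h₁.four) h₁ le_rfl h₂ h12
  have h2 := abelem_order_p hA hh h1
  have hc := (abelem_cent hA).trans (cent_le_cent1 hh)
  have c₁ := le_sup_left.trans hc
  have c₂ := le_sup_right.trans hc
  refine le_of_comm_cent hg.odd (abelem_pgroup hA) hg.nz (le_sup_of_le_left ?_)
    (le_sup_of_le_right hg.cent)
  rw [commGC]
  refine commMG_le (c₁.trans (norm_D h)) ?_ ?_ (c₂.trans (norm_D h)) <;> rw [commGC]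
  · exact CC_comm (c.symm.hg_le h₂ hg.odd (le_sup_right.trans hg.nz) hg.g₂ h2 c₂ hX) h₁.sub c₁
  · exact CC_comm (c.hg_le h₁ hg.odd (le_sup_left.trans hg.nz) hg.g₁ h2 c₁ hX) h₂.sub c₂

theorem good_D [Fact OddOrderThm.{u}] {E₁ E₂ A : Subgroup G} (h₁ : Q4 T₁ E₁) (h₂ : Q4 T₂ E₂)
    (hA : A ≤ 𝐂(A)) (hA₁ : E₁ ≤ A) (hA₂ : E₂ ≤ A) {a : G} (ha : a ∈ E₁) (h1 : a ≠ 1) :
    Good T₁ T₂ E₁ E₂ A ⁅𝐎(𝐂[a]), E₂⁆ := by
  have hn : A ≤ 𝐍(𝐎(𝐂[a])) := (hA.trans (cent_le_cent1 (hA₁ ha))).trans (norm_D a)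
  have hle : ⁅𝐎(𝐂[a]), E₂⁆ ≤ 𝐎(𝐂[a]) := commg_subl.2 (hA₂.trans hn)
  exact ⟨odd_of_le hle (odd_core _), normsR hn (cents_norm (centsS hA₂ hA)),
    fun a' ha' h1' => (inf_le_inf_right _ (hle.trans (D_le_CC T₂ a))).trans
      (c.star (h₁.sub a ha) (h₁.inv ha' h1').2 (four_cent1 h₁.four ha' ha)),
    (c.symm.hg_RR h₂ (odd_core _) (hA₂.trans hn)).mono le_sup_left,
    (inf_le_inf_right _ hle).trans (inf_core_le (cent_le_cent1 (hA₁ ha)))⟩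

theorem exists_cmp [Fact OddOrderThm.{u}] (hF : SFTStmt.{u}) {E₁ E₂ : Subgroup G} (h₁ : Q4 T₁ E₁)
    (h₂ : Q4 T₂ E₂) (h12 : E₁ ≤ 𝐂(E₂)) : ∃ W, Cmp E₁ E₂ W := by
  obtain ⟨hA, hA8⟩ := c.pair.abelem (four_abelem h₁.four) h₁ le_rfl h₂ h12
  have hAc := abelem_cent hA
  obtain ⟨θ, hθ⟩ : ∃ θ : G → Subgroup G,
      θ = fun h => RR T₂ E₁ (QQ (E₁ ⊔ E₂) h) ⊓ RR T₁ E₂ (QQ (E₁ ⊔ E₂) h) := ⟨_, rfl⟩
  have hQ : ∀ h ∈ E₁ ⊔ E₂, θ h ≤ QQ (E₁ ⊔ E₂) h := fun h hh =>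
    hθ ▸ inf_le_left.trans (RR_le (le_sup_left.trans (hAc.trans (QQ_norm hh))))
  have hgood : ∀ h ∈ E₁ ⊔ E₂, Good T₁ T₂ E₁ E₂ (E₁ ⊔ E₂) (θ h) := fun h hh => by
    have hn := hAc.trans (QQ_norm hh)
    refine ⟨odd_of_le (hQ h hh) (QQ_odd hh), ?_, ?_, ?_,
      (inf_le_inf_right _ (hQ h hh)).trans (QQ_cent hh)⟩ <;> rw [hθ]
    · exact normsI (RR_norm c.pair.f₂ hn (centsS le_sup_left hAc))
        (RR_norm c.pair.f₁ hn (centsS le_sup_right hAc))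
    · exact (c.hg_RR h₁ (QQ_odd hh) (le_sup_left.trans hn)).mono inf_le_left
    · exact (c.symm.hg_RR h₂ (QQ_odd hh) (le_sup_right.trans hn)).mono inf_le_right
  have hmax : ∀ h ∈ E₁ ⊔ E₂, h ≠ 1 → ∀ X, Good T₁ T₂ E₁ E₂ (E₁ ⊔ E₂) X → X ≤ 𝐂[h] → X ≤ θ h :=
    fun h hh h1 X hX hXc => by
      have := c.good_le h₁ h₂ h12 hX hh h1 hXc
      exact hθ ▸ le_inf (le_RR h₁.two hX.odd (le_sup_left.trans hX.nz) this hX.g₁)
        (le_RR h₂.two hX.odd (le_sup_right.trans hX.nz) this hX.g₂)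
  obtain ⟨W, hWo, hWn, hW⟩ := hF G (E₁ ⊔ E₂) θ hA hA8 ⟨fun a ha _ => (hgood a ha).odd,
    fun a ha _ => (hQ a ha).trans (QQ_le ha), fun a ha _ => (hgood a ha).nz,
    fun a ha _ b hb h1 => hmax b hb h1 _ ((hgood a ha).mono inf_le_left
      (normsI (hgood a ha).nz (normsG (hAc.trans (cent_le_cent1 hb))))) inf_le_right⟩
  refine ⟨W, hWo, hWn, fun h hh h1 => (hW h hh h1).le.trans (hQ h hh), fun a ha h1 => ?_,
    fun a ha h1 => ?_⟩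
  · exact (hmax a (mem_sup_left ha) h1 _ (c.good_D h₁ h₂ hAc le_sup_left le_sup_right ha h1)
      (comm_subG (D_le a) (le_sup_right.trans (hAc.trans (cent_le_cent1 (mem_sup_left ha)))))).trans
      ((hW a (mem_sup_left ha) h1).ge.trans inf_le_left)
  · exact (hmax a (mem_sup_right ha) h1 _
      (c.symm.good_D h₂ h₁ hAc le_sup_right le_sup_left ha h1).symm
      (comm_subG (D_le a) (le_sup_left.trans (hAc.trans (cent_le_cent1 (mem_sup_right ha)))))).trans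
      ((hW a (mem_sup_right ha) h1).ge.trans inf_le_left)

end Cfg

end Cfsg.Agent.SF.GP
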