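import Cfsg.Agent.Lib.SF.ThmA4

/-! Theorem A of `docs/SF_PLAN.md`: the case of a connected graph. -/

set_option autoImplicit false
set_option linter.unusedSectionVars false
set_option linter.unusedVariables false

namespace Cfsg.Agent.SF.GP

open Subgroup Cfsg.Agent.FT

universe u

section
variable {G : Type*} [Group G]

/-- a description of `[W, E]` that only depends on `E` and one involution `a` -/
def PH (E : Subgroup G) (a : G) : Subgroup G :=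
  closure {x | ∃ y, ∃ e ∈ E, x = y * e * y⁻¹ * e⁻¹ ∧ (y ∈ 𝐎(𝐂[a]) ∨
    ∃ b ∈ E, ∃ b' ∈ E, b ≠ 1 ∧ b' ≠ 1 ∧ b' ≠ b ∧ y ∈ 𝐎(𝐂[b]) ∧ y ∈ 𝐂[a * b'])}

theorem le_PH₁ (E : Subgroup G) (a : G) : ⁅𝐎(𝐂[a]), E⁆ ≤ PH E a :=
  commg_le.2 fun y hy e he => subset_closure ⟨y, e, he, rfl, Or.inl hy⟩

theorem le_PH₂ {E : Subgroup G} (a : G) {b b' : G} (hb : b ∈ E) (hb' : b' ∈ E) (h1 : b ≠ 1)
    (h2 : b' ≠ 1) (h3 : b' ≠ b) : ⁅𝐎(𝐂[b]) ⊓ 𝐂[a * b'], E⁆ ≤ PH E a :=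
  commg_le.2 fun y hy e he =>
    subset_closure ⟨y, e, he, rfl, Or.inr ⟨b, hb, b', hb', h1, h2, h3, hy.1, hy.2⟩⟩

theorem PH_cj (E : Subgroup G) (a g : G) : cj g (PH E a) ≤ PH (cj g E) (g * a * g⁻¹) := by
  rw [Tr.cj_le_iff_le_cj_inv, PH, closure_le]
  rintro _ ⟨y, e, he, rfl, h⟩
  refine Tr.mem_cj_inv.2 (subset_closure ⟨g * y * g⁻¹, g * e * g⁻¹, Tr.conj_mem_cj.2 he,
    by group, h.imp (D_conj g) ?_⟩)
  rintro ⟨b, hb, b', hb', h1, h2, h3, h4, h5⟩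
  refine ⟨g * b * g⁻¹, Tr.conj_mem_cj.2 hb, g * b' * g⁻¹, Tr.conj_mem_cj.2 hb', by simpa using h1,
    by simpa using h2, by simpa using h3, D_conj g h4, ?_⟩
  rw [show g * a * g⁻¹ * (g * b' * g⁻¹) = g * (a * b') * g⁻¹ by group, cent1J]
  exact Tr.conj_mem_cj.2 h5

theorem QQ_comm {A E Y : Subgroup G} {h : G} (hA : h ∈ A) (hE : E ≤ A) (hY : 𝐂(A) ≤ Y) :
    ⁅QQ A h ⊓ Y, E⁆ = ⁅𝐎(𝐂[h]) ⊓ Y, E⁆ := by
  rw [QQ_inf hA hY]
  exact commMG_cent ((pcore_sub _ _).trans (centS hE))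
    (normsI (O_norm_D hA) (normsG ((pcore_sub _ _).trans hY)))

/-- generated by the involutions of `T` centralizing an involution of `E` -/
def LL (T : Set G) (E : Subgroup G) : Subgroup G :=
  closure {t | Inv T t ∧ ∃ b ∈ E, b ≠ 1 ∧ t ∈ 𝐂[b]}

/-- a description of `LL T E` that only depends on one involution of `E` -/
def Lb (T : Set G) (b : G) : Subgroup G :=
  closure ({t | Inv T t ∧ t ∈ 𝐂[b]} ∪ {x | ∃ E, Q4 T E ∧ E ≤ 𝐂[b] ∧ x ∈ PH E b})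

theorem Lb_norm {T : Set G} (hT : Fam T) (b : G) : 𝐂[b] ≤ 𝐍(Lb T b) := by
  refine norms_gen fun g hg x hx => hx.imp
    (fun h => ⟨hT.inv_conj h.1 g, mul_mem (mul_mem hg h.2) (inv_mem hg)⟩) ?_
  rintro ⟨E, h1, h2, h3⟩
  refine ⟨cj g E, h1.cj hT g, Tr.cj_le_of_mem h2 hg, ?_⟩
  have := PH_cj E b g (Tr.conj_mem_cj.2 h3)
  rwa [cent1_conj.1 hg] at this

end

section
variable [Fact OddOrderThm.{u}] {G : Type u} [Group G] [Finite G] {T₁ T₂ : Set G}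
  {E₁ E₂ W : Subgroup G}

theorem Cmp.comm_ge (hW : Cmp E₁ E₂ W) (h₂ : IsKleinFour E₂) {Y : Subgroup G} (hY : Odd #|Y|)
    (hn : E₂ ≤ 𝐍(Y)) (h : ⁅Y, E₂⁆ ≤ W) : ⁅Y, E₂⁆ ≤ ⁅W, E₂⁆ := by
  rw [← commGid2 hY (TwoGrp.kleinFour_isPGroup h₂) hn]
  exact commSg _ h

theorem Cmp.comm_le (hW : Cmp E₁ E₂ W) (h₁ : IsKleinFour E₁) (h₂ : IsKleinFour E₂)
    {H : Subgroup G} (h : ∀ a ∈ E₁, a ≠ 1 → ⁅𝐎(𝐂[a]), E₂⁆ ≤ H) : ⁅W, E₂⁆ ≤ H := by
  refine gen_comm (odd_sol hW.odd) h₁ (TwoGrp.kleinFour_isPGroup h₂) hW.odd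
    (le_sup_left.trans hW.nz) (le_sup_right.trans hW.nz) fun a ha h1 => ?_
  have := QQ_comm (mem_sup_left (T := E₂) ha) le_sup_right (Y := ⊤) le_top
  rw [inf_top_eq, inf_top_eq] at this
  exact (commSg _ (hW.loc a (mem_sup_left ha) h1)).trans (this ▸ h a ha h1)

theorem Cmp.comm_eq (hW : Cmp E₁ E₂ W) (hp : Pair T₁ T₂) (h₁ : Q4 T₁ E₁) (h₂ : Q4 T₂ E₂)
    (h12 : E₁ ≤ 𝐂(E₂)) {a : G} (ha : a ∈ E₁) (h1 : a ≠ 1) : ⁅W, E₂⁆ = PH E₂ a := by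
  have hi := h₁.inv ha h1
  have hEa : E₂ ≤ 𝐂[a] := sub_cent1.2 (h12 ha)
  have hab : ∀ b ∈ E₂, E₂ ≤ 𝐂[a * b] := fun b hb =>
    sub_cent1.2 (mul_mem (h12 ha) (four_cent h₂.four hb))
  refine le_antisymm ?_ ((closure_le _).2 ?_)
  · refine gen_comm (odd_sol hW.odd) h₂.four h₂.two hW.odd (le_sup_right.trans hW.nz)
      (le_sup_right.trans hW.nz) fun b hb hb1 => ?_
    obtain ⟨b', hb', hb'1, hbb⟩ := TwoGrp.kleinFour_exists_ne h₂.four b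
    have hi' := h₂.inv hb' hb'1
    have hc : a * b' = b' * a := (mem_cent.1 (h12 ha) b' hb').symm
    have hF := TwoGrp.isKleinFour_four hi.sq hi'.sq hc h1 hb'1
      fun e => h1 (hp.disj a hi.1 (e ▸ hi'.1))
    have hbc : E₁ ⊔ E₂ ≤ 𝐂[b] := sup_le (h12.trans (cent_le_cent1 hb)) (four_cent1 h₂.four hb)
    have hn : E₁ ⊔ E₂ ≤ 𝐍(W ⊓ 𝐂[b]) := normsI hW.nz (normsG hbc)
    have ho := odd_of_le (inf_le_left (b := 𝐂[b])) hW.odd
    refine gen_comm (odd_sol ho) hF h₂.two ho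
      ((four_le (mem_sup_left ha) (mem_sup_right hb')).trans hn) (le_sup_right.trans hn)
      fun f hf hf1 => ?_
    rcases TwoGrp.mem_four.1 hf with rfl | rfl | rfl | rfl
    · exact (hf1 rfl).elim
    · have := QQ_comm (mem_sup_left (T := E₂) ha) le_sup_right (Y := ⊤) le_top
      rw [inf_top_eq, inf_top_eq] at this
      exact (commSg _ ((inf_le_inf_right _ inf_le_left).trans
        (hW.loc f (mem_sup_left ha) h1))).trans (this ▸ le_PH₁ E₂ f)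
    · rw [commG1P.2]
      · exact bot_le
      refine fun x hx => centsC.1 (fun e he => ?_ : E₂ ≤ 𝐂(zpowers x)) (mem_zpowers x)
      rw [cent_cycle]
      rcases (TwoGrp.kleinFour_mem_iff h₂.four hb hb' hb1 hb'1 hbb.symm e).1 he with
        rfl | rfl | rfl | rfl
      exacts [one_mem _, cent1C.1 hx.1.2, cent1C.1 hx.2,
        mul_mem (cent1C.1 hx.1.2) (cent1C.1 hx.2)]
    · refine (commSg _ (inf_le_inf_right _ (hW.loc b (mem_sup_right hb) hb1))).trans ?_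
      rw [QQ_comm (mem_sup_right hb) le_sup_right
        (cent_le_cent1 (mul_mem (mem_sup_left ha) (mem_sup_right hb')))]
      exact le_PH₂ a hb hb' hb1 hb'1 hbb
  · rintro _ ⟨y, e, he, rfl, hy | ⟨b, hb, b', hb', hb1, hb'1, hbb, h4, h5⟩⟩
    · exact hW.comm_ge h₂.four (odd_core _) (hEa.trans (norm_D a)) (hW.le₁ a ha h1)
        (mem_commg hy he)
    · refine hW.comm_ge h₂.four (Y := 𝐎(𝐂[b]) ⊓ 𝐂[a * b']) (odd_of_le inf_le_left (odd_core _))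
        (normsI ((four_cent1 h₂.four hb).trans (norm_D b)) (normsG (hab b' hb')))
        (commg_le.2 fun y hy e he => ?_) (mem_commg ⟨h4, h5⟩ he)
      have h6 := hW.le₂ b hb hb1 (mem_commg hy.1 ha)
      have key : ∀ e, y ∈ 𝐂[a * e] → y * e * y⁻¹ * e⁻¹ ∈ W := fun e h => by
        have h7 : y * e * y⁻¹ * e⁻¹ = y * a⁻¹ * y⁻¹ * (y * (a * e) * y⁻¹) * e⁻¹ := by group
        rw [h7, cent1_conj.1 h, hi.inv_eq]
        rw [hi.inv_eq] at h6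
        simpa [mul_assoc] using h6
      have hyb : y ∈ 𝐂[b] := D_le b hy.1
      rcases (TwoGrp.kleinFour_mem_iff h₂.four hb' hb hb'1 hb1 hbb e).1 he with
        rfl | rfl | rfl | rfl
      · simp
      · exact key _ hy.2
      · rw [cent1_conj.1 hyb, mul_inv_cancel]
        exact one_mem W
      · exact key _ (cent1C.1 (mul_assoc a b' b ▸ mul_mem (cent1C.1 hy.2) (cent1C.1 hyb)))

namespace Cfg

variable (c : Cfg T₁ T₂) (hF : SFTStmt.{u})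
include c hF

theorem Lb_eq (h₂ : Q4 T₂ E₂) {b : G} (hb : b ∈ E₂) (hb1 : b ≠ 1) : Lb T₁ b = LL T₁ E₂ := by
  have f₁ := c.pair.f₁
  refine le_antisymm ((closure_le _).2 ?_) ((closure_le _).2 ?_)
  · have h1 : closure {t | Inv T₁ t ∧ t ∈ 𝐂[b]} ≤ LL T₁ E₂ :=
      closure_mono fun t ht => ⟨ht.1, b, hb, hb1, ht.2⟩
    rintro x (hx | ⟨E, hE, hEc, hx⟩)
    · exact h1 (subset_closure hx)
    have h2 : 𝐂[b] ≤ 𝐍(closure {t | Inv T₁ t ∧ t ∈ 𝐂[b]}) := norms_gen fun g hg t ht =>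
      ⟨f₁.inv_conj ht.1 g, mul_mem (mul_mem hg ht.2) (inv_mem hg)⟩
    have h3 : E ≤ closure {t | Inv T₁ t ∧ t ∈ 𝐂[b]} := fun e he => by
      by_cases h : e = 1
      · exact h ▸ one_mem _
      · exact subset_closure ⟨hE.inv he h, hEc he⟩
    have h4 := (four_cent1 h₂.four hb).trans h2
    obtain ⟨d, hd, P, hP, h5, h6⟩ := lift2 hE.two h₂.two (hEc.trans h2) h4 (by
      rw [quotientY (hEc.trans h2) h4, quotientS1 h3, bot_sup_eq]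
      exact quotient_isPGroup _ h₂.two)
    have hE' := hE.cj f₁ d
    have h7 := c.pair.cent hP hE'.sub h₂.sub h5 h6
    obtain ⟨W, hW⟩ := c.exists_cmp hF hE' h₂ h7
    have hdb : d ∈ 𝐂[b] := (closure_le 𝐂[b]).2 (fun t ht => ht.2) hd
    have h8 := PH_cj E b d (Tr.conj_mem_cj.2 hx)
    rw [cent1_conj.1 hdb, ← hW.symm.comm_eq c.pair.symm h₂ hE' (centsC.1 h7) hb hb1] at h8
    have h9 := hW.symm.comm_le h₂.four hE'.four (H := LL T₁ E₂) (fun b' hb' h1' =>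
      commg_le.2 fun y hy t ht => by
        by_cases h : t = 1
        · simp [h]
        have htc := cent_le_cent1 hb' (h7 ht)
        exact mul_mem (subset_closure ⟨f₁.inv_conj (hE'.inv ht h) y, b', hb', h1',
          mul_mem (mul_mem (D_le _ hy) htc) (inv_mem (D_le _ hy))⟩)
          (inv_mem (subset_closure ⟨hE'.inv ht h, b', hb', h1', htc⟩))) h8
    simpa [mul_assoc] using mul_mem (mul_mem (inv_mem (h1 hd)) h9) (h1 hd)
  · rintro t ⟨ht, b', hb', h1', htc⟩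
    have hc' := four_cent1 h₂.four hb'
    obtain ⟨d, hd, h1⟩ := f₁.lift_T h₂.two (c.symm.le_CC (h₂.inv hb' h1').2 h₂.sub hc') ht.1 htc
    obtain ⟨E, hE, htE, hEc⟩ := c.exists_q4 h₂.two h₂.sub (f₁.inv_conj ht d) h1.2
    obtain ⟨W, hW⟩ := c.exists_cmp hF hE h₂ hEc
    have h2 := hW.symm.comm_ge hE.four (odd_core _)
      ((hEc.trans (cent_le_cent1 hb')).trans (norm_D b')) (hW.le₂ b' hb' h1')
      (mem_commg (inv_mem hd) htE)
    rw [hW.symm.comm_eq c.pair.symm h₂ hE (centsC.1 hEc) hb hb1] at h2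
    have h3 := (Lb T₁ b).mul_mem
      (subset_closure (Or.inr ⟨E, hE, hEc.trans (cent_le_cent1 hb), h2⟩))
      (subset_closure (Or.inl ⟨f₁.inv_conj ht d, cent_le_cent1 hb h1.2⟩))
    simpa [mul_assoc] using h3

theorem LL_ne (h₂ : Q4 T₂ E₂) (hd : ¬ Dis (T₁ ∩ 𝐂(E₂))) {a₀ : G} (ha₀ : Inv (T₁ ∩ 𝐂(E₂)) a₀) :
    LL T₁ E₂ ≠ ⊤ := by
  have f₁ := c.pair.f₁
  have hconst : ∀ a, Inv (T₁ ∩ 𝐂(E₂)) a → PH E₂ a = PH E₂ a₀ := fun a ha => by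
    have h : Conn (T₁ ∩ 𝐂(E₂)) a₀ a := by
      by_contra h
      exact hd ⟨a₀, a, ha₀, ha, h⟩
    clear ha
    induction h with
    | refl => rfl
    | @tail x y _ h ih =>
      by_cases e : x = y
      · exact e ▸ ih
      have hE := q4_four f₁ (h.1.mono h.1.1.1) (h.2.1.mono h.2.1.1.1) h.2.2 e
      have hEc := four_le (ha := h.1.sq) (hb := h.2.1.sq) (h := h.2.2) h.1.1.2 h.2.1.1.2
      obtain ⟨W, hW⟩ := c.exists_cmp hF hE h₂ hEc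
      rw [← ih, ← hW.comm_eq c.pair hE h₂ hEc left_mem_four h.1.ne,
        ← hW.comm_eq c.pair hE h₂ hEc right_mem_four h.2.1.ne]
  have hn : 𝐂(E₂) ≤ 𝐍(PH E₂ a₀) := fun g hg => Tr.mem_normalizer_of_cj_le (by
    have := PH_cj E₂ a₀ g
    rwa [Tr.cj_eq_of_mem_centralizer hg, hconst _ ((f₁.inv_conj (ha₀.mono ha₀.1.1) g).mono
      ⟨f₁.conj _ ha₀.1.1 g, mul_mem (mul_mem hg ha₀.1.2) (inv_mem hg)⟩)] at this)
  have ho : Odd #|PH E₂ a₀| := by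
    obtain ⟨E, hE, h1, hEc⟩ := c.exists_q4 h₂.two h₂.sub (ha₀.mono ha₀.1.1) ha₀.1.2
    obtain ⟨W, hW⟩ := c.exists_cmp hF hE h₂ hEc
    rw [← hW.comm_eq c.pair hE h₂ hEc h1 ha₀.ne]
    exact odd_of_le (commg_subl.2 (le_sup_right.trans hW.nz)) hW.odd
  obtain ⟨Y, hY⟩ : ∃ Y, Y = PH E₂ a₀ ⊔ 𝐎(𝐂(E₂)) := ⟨_, rfl⟩
  have hYo : Odd #|Y| := hY ▸ odd_sup ho (odd_core _) ((pcore_sub _ _).trans hn)
  have hYn : 𝐂(E₂) ≤ 𝐍(Y) := hY ▸ normsY hn (pcore_norm _ _)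
  have hle : LL T₁ E₂ ≤ Y ⊔ 𝐂(E₂) := (closure_le _).2 fun t ⟨ht, b, hb, hb1, htc⟩ => by
    have hc' := four_cent1 h₂.four hb
    obtain ⟨d, hd, h1⟩ := f₁.lift_T h₂.two (c.symm.le_CC (h₂.inv hb hb1).2 h₂.sub hc') ht.1 htc
    have ht' := f₁.inv_conj ht d
    obtain ⟨E, hE, htE, hEc⟩ := c.exists_q4 h₂.two h₂.sub ht' h1.2
    obtain ⟨W, hW⟩ := c.exists_cmp hF hE h₂ hEc
    have h2 := hW.symm.comm_ge hE.four (odd_core _)
      ((hEc.trans (cent_le_cent1 hb)).trans (norm_D b)) (hW.le₂ b hb hb1)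
      (mem_commg (inv_mem hd) htE)
    have h3 : W ≤ cmod Y E := le_of_comm_cent hW.odd h₂.two (le_sup_right.trans hW.nz)
      (by
        rw [hW.comm_eq c.pair hE h₂ hEc htE ht'.ne, hconst _ (ht'.mono ⟨ht'.1, h1.2⟩)]
        exact (hY ▸ le_sup_left).trans (self_le_cmod fun e he => hYn (hEc he)))
      (le_cmod (inf_le_right.trans hYn) (by
        refine (commSg _ (le_inf ((inf_le_inf_left _ (cent_le_cent1 hb)).trans
          (hW.loc b (mem_sup_right hb) hb1)) inf_le_right)).trans ?_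
        rw [QQ_comm (mem_sup_right hb) le_sup_left (centS le_sup_right), hY]
        exact le_sup_of_le_right ((commg_subl.2 (normsI ((hEc.trans (cent_le_cent1 hb)).trans
          (norm_D b)) (normsG hEc))).trans (inf_core_le (cent_le_cent1 hb)))))
    simpa [mul_assoc] using mul_mem_sup (comm_le_of_le_cmod h3 h2) h1.2
  intro e
  rw [e] at hle
  rw [c.norm_odd hYo (hle.trans (sup_le (normG Y) hYn)), bot_sup_eq] at hle
  exact c.cent_ne (four_ne_bot h₂.four) (top_le_iff.1 hle)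

theorem caseC {S : Subgroup G} (hS : IsSylowIn 2 S ⊤) (h₂ : Q4 T₂ E₂) (hS₂ : E₂ ≤ S)
    (hd : ¬ Dis (T₁ ∩ 𝐂(E₂))) : False := by
  obtain ⟨a, ha, haS, -⟩ := c.exists_inv hS
  have hac : a ∈ 𝐂(E₂) := mem_cent.2 fun b hb =>
    (c.pair.comm S hS.pgroup a ha.1 b (h₂.sub b hb) haS (hS₂ hb)).symm
  obtain ⟨z, hz, hzS, hc⟩ := c.symm.exists_inv hS
  have key : ∀ b, Inv T₂ b → b ∈ S → Lb T₁ b = Lb T₁ z := fun b hb hbS => by
    by_cases e : b = z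
    · rw [e]
    have hE := q4_four c.pair.f₂ hb hz (hc b hbS) e
    rw [c.Lb_eq hF hE left_mem_four hb.ne, c.Lb_eq hF hE right_mem_four hz.ne]
  obtain ⟨b, hb, hb1, -⟩ := TwoGrp.kleinFour_exists_ne h₂.four 1
  have h1 : Lb T₁ z = LL T₁ E₂ := (key b (h₂.inv hb hb1) (hS₂ hb)).symm.trans (c.Lb_eq hF h₂ hb hb1)
  refine c.symm.final hS (c.norm_ne (L := Lb T₁ z) (trivgPn.2 ⟨a, ?_, ha.ne⟩) ?_)
    fun b hb hbS => key b hb hbS ▸ Lb_norm c.pair.f₁ b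
  · exact h1 ▸ subset_closure ⟨ha, b, hb, hb1, cent_le_cent1 hb hac⟩
  · exact h1 ▸ c.LL_ne hF h₂ hd (ha.mono ⟨ha.1, hac⟩)

end Cfg

end

theorem simpleCase (hFT : OddOrderThm.{u}) (hF : SFTStmt.{u}) (hB : BScStmt.{u}) :
    SimpleCase.{u} := fun G _ _ T₁ T₂ c => by
  have : Fact OddOrderThm.{u} := ⟨hFT⟩
  obtain ⟨S, hS⟩ := Sylow_exists 2 (⊤ : Subgroup G)
  obtain ⟨E₁, h₁, hS₁⟩ := c.exists_q4_le hS
  obtain ⟨E₂, h₂, hS₂⟩ := c.symm.exists_q4_le hS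
  by_cases hd₁ : Dis (T₁ ∩ 𝐂(E₂))
  · by_cases hd₂ : Dis (T₂ ∩ 𝐂(E₁))
    · exact c.caseD hB hF hS h₁ h₂ hS₁ hS₂ hd₁ hd₂
    · exact c.symm.caseC hF hS h₁ hS₁ hd₂
  · exact c.caseC hF hS h₂ hS₂ hd₁

end Cfsg.Agent.SF.GP
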